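import Cfsg.Agent.SL2.Basic
import Cfsg.Agent.Unitary.Basic
import Mathlib.LinearAlgebra.Matrix.SchurComplement
set_option autoImplicit false

/-!
`SU_n` for the anti-diagonal Hermitian form: padding of small blocks, gradings, radicals.
-/

namespace CfsgLib.SUFusion

open Matrix

variable {K : Type*} [Field K] (σ : K →+* K)

/-- The adjoint for the anti-diagonal form. -/
def str {a b : ℕ} (M : Matrix (Fin a) (Fin b) K) : Matrix (Fin b) (Fin a) K :=
  Matrix.of fun i j => σ (M j.rev i.rev)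

theorem str_apply {a b : ℕ} (M : Matrix (Fin a) (Fin b) K) (i : Fin b) (j : Fin a) :
    str σ M i j = σ (M j.rev i.rev) := rfl

theorem str_mul {a b c : ℕ} (M : Matrix (Fin a) (Fin b) K) (N : Matrix (Fin b) (Fin c) K) :
    str σ (M * N) = str σ N * str σ M := by
  ext i j
  rw [str_apply, Matrix.mul_apply, Matrix.mul_apply, map_sum, ← Equiv.sum_comp Fin.revPerm]
  exact Finset.sum_congr rfl fun k _ => by simp [str_apply, mul_comm]

theorem str_add {a b : ℕ} (M N : Matrix (Fin a) (Fin b) K) : str σ (M + N) = str σ M + str σ N := by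
  ext i j; simp [str_apply]

theorem str_sub {a b : ℕ} (M N : Matrix (Fin a) (Fin b) K) : str σ (M - N) = str σ M - str σ N := by
  ext i j; simp [str_apply]

theorem str_one {a : ℕ} : str σ (1 : Matrix (Fin a) (Fin a) K) = 1 := by
  ext i j
  rw [str_apply, Matrix.one_apply, Matrix.one_apply]
  by_cases h : i = j <;> simp [h, Fin.rev_inj, Ne.symm]

/-- Matrices of determinant one preserving the anti-diagonal Hermitian form. -/
def iso (n : ℕ) : Subgroup (SpecialLinearGroup (Fin n) K) where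
  carrier := {g | str σ g.1 * g.1 = 1}
  one_mem' := by
    show str σ (1 : Matrix (Fin n) (Fin n) K) * 1 = 1
    rw [str_one, Matrix.mul_one]
  mul_mem' := fun {g h} hg hh => by
    show str σ (g.1 * h.1) * (g.1 * h.1) = 1
    rw [str_mul, Matrix.mul_assoc, ← Matrix.mul_assoc (str σ g.1), show str σ g.1 * g.1 = 1 from hg,
      Matrix.one_mul]
    exact hh
  inv_mem' := fun {g} hg => by
    have h1 : g.1 * (g⁻¹).1 = 1 := congrArg Subtype.val (mul_inv_cancel g)
    have h2 : str σ g.1 = (g⁻¹).1 :=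
      left_inv_eq_right_inv (show str σ g.1 * g.1 = 1 from hg) h1
    show str σ (g⁻¹).1 * (g⁻¹).1 = 1
    have h3 := congrArg (str σ) h1
    rw [str_mul, str_one, h2] at h3
    exact h3

variable {σ} {n : ℕ}

/-- The matrix of an element. -/
def mat (g : iso σ n) : Matrix (Fin n) (Fin n) K := g.1.1

theorem mat_mul (g h : iso σ n) : mat (g * h) = mat g * mat h := rfl

theorem mat_one : mat (1 : iso σ n) = 1 := rfl

theorem mat_pow (g : iso σ n) (r : ℕ) : mat (g ^ r) = mat g ^ r := by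
  induction r with
  | zero => rfl
  | succ r ih => rw [pow_succ, pow_succ, mat_mul, ih]

theorem mat_ext {g h : iso σ n} (e : mat g = mat h) : g = h := Subtype.ext (Subtype.ext e)

theorem str_mat_mul (g : iso σ n) : str σ (mat g) * mat g = 1 := g.2

theorem mat_inv (g : iso σ n) : mat g⁻¹ = str σ (mat g) :=
  (left_inv_eq_right_inv (str_mat_mul g) (by rw [← mat_mul, mul_inv_cancel, mat_one])).symm

theorem mat_det (g : iso σ n) : (mat g).det = 1 := g.1.2

/-- An element given by a matrix. -/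
def mk (M : Matrix (Fin n) (Fin n) K) (hd : M.det = 1) (hs : str σ M * M = 1) : iso σ n := ⟨⟨M, hd⟩, hs⟩

theorem mat_mk (M : Matrix (Fin n) (Fin n) K) (hd : M.det = 1) (hs : str σ M * M = 1) : mat (mk M hd hs) = M := rfl

/-- An embedding of coordinates compatible with the reversal. -/
structure REmb (k n : ℕ) where
  f : Fin k → Fin n
  inj : Function.Injective f
  rev_f : ∀ a, f a.rev = (f a).rev

namespace REmb

variable {k l : ℕ}

/-- Composition. -/
def comp (e : REmb k n) (ι : REmb l k) : REmb l n :=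
  ⟨e.f ∘ ι.f, e.inj.comp ι.inj, fun a => by simp [ι.rev_f, e.rev_f]⟩

variable (K) in
/-- The matrix of an embedding. -/
def mx (e : REmb k n) : Matrix (Fin n) (Fin k) K := Matrix.of fun i a => if i = e.f a then 1 else 0

theorem trans_mx_mul (e : REmb k n) : (e.mx K)ᵀ * e.mx K = 1 := by
  ext a b
  rw [Matrix.mul_apply, Finset.sum_eq_single (e.f a) (fun i _ hi => by simp [mx, hi]) (by simp)]
  simp [mx, Matrix.one_apply, e.inj.eq_iff]

theorem mx_comp (e : REmb k n) (ι : REmb l k) : (e.comp ι).mx K = e.mx K * ι.mx K := by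
  ext i a
  rw [Matrix.mul_apply, Finset.sum_eq_single (ι.f a) (fun b _ hb => by simp [mx, hb]) (by simp)]
  simp only [mx, comp, Matrix.of_apply, Function.comp_apply, if_true, mul_one]
  rfl

theorem str_mx (e : REmb k n) : str σ (e.mx K) = (e.mx K)ᵀ := by
  ext a i
  have h : i.rev = e.f a.rev ↔ i = e.f a := by rw [e.rev_f, Fin.rev_inj]
  simp [str_apply, mx, apply_ite σ, h]

theorem str_mx_trans (e : REmb k n) : str σ ((e.mx K)ᵀ) = e.mx K := by
  ext i a
  have h : i.rev = e.f a.rev ↔ i = e.f a := by rw [e.rev_f, Fin.rev_inj]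
  simp [str_apply, mx, apply_ite σ, h]

end REmb

/-- Padding with the identity. -/
def pad {k : ℕ} (e : REmb k n) (A : Matrix (Fin k) (Fin k) K) : Matrix (Fin n) (Fin n) K :=
  1 + e.mx K * (A - 1) * (e.mx K)ᵀ

theorem pad_mul {k : ℕ} (e : REmb k n) (A B : Matrix (Fin k) (Fin k) K) : pad e (A * B) = pad e A * pad e B := by
  have h : e.mx K * (A - 1) * (e.mx K)ᵀ * (e.mx K * (B - 1) * (e.mx K)ᵀ) =
      e.mx K * ((A - 1) * (B - 1)) * (e.mx K)ᵀ := by
    simp only [Matrix.mul_assoc]
    rw [← Matrix.mul_assoc (e.mx K)ᵀ (e.mx K), e.trans_mx_mul, Matrix.one_mul]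
  rw [pad, pad, pad, Matrix.add_mul, Matrix.mul_add, Matrix.mul_add, Matrix.one_mul, Matrix.mul_one, Matrix.one_mul, h,
    add_assoc]
  congr 1
  rw [← Matrix.add_mul, ← Matrix.add_mul, ← Matrix.mul_add, ← Matrix.mul_add]
  congr 2
  rw [Matrix.sub_mul, Matrix.one_mul, Matrix.mul_sub, Matrix.mul_one]
  abel

theorem pad_one {k : ℕ} (e : REmb k n) : pad e (1 : Matrix (Fin k) (Fin k) K) = 1 := by
  simp [pad]

theorem str_pad {k : ℕ} (e : REmb k n) (A : Matrix (Fin k) (Fin k) K) : str σ (pad e A) = pad e (str σ A) := by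
  rw [pad, str_add, str_mul, str_mul, REmb.str_mx, REmb.str_mx_trans, str_sub, str_one, str_one, pad, Matrix.mul_assoc]

theorem det_pad {k : ℕ} (e : REmb k n) (A : Matrix (Fin k) (Fin k) K) : (pad e A).det = A.det := by
  rw [pad, Matrix.det_one_add_mul_comm, ← Matrix.mul_assoc, e.trans_mx_mul, Matrix.one_mul, add_sub_cancel]

theorem pad_comp {k l : ℕ} (e : REmb k n) (ι : REmb l k) (A : Matrix (Fin l) (Fin l) K) :
    pad (e.comp ι) A = pad e (pad ι A) := by
  simp [pad, REmb.mx_comp, Matrix.mul_assoc]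

/-- Padding as a homomorphism. -/
def padHom {k : ℕ} (e : REmb k n) : iso σ k →* iso σ n where
  toFun g := mk (pad e (mat g)) (by rw [det_pad, mat_det]) (by rw [str_pad, ← pad_mul, str_mat_mul, pad_one])
  map_one' := mat_ext (pad_one e)
  map_mul' g h := mat_ext (pad_mul e _ _)

theorem mat_padHom {k : ℕ} (e : REmb k n) (g : iso σ k) : mat (padHom e g) = pad e (mat g) := rfl

theorem padHom_comp {k l : ℕ} (e : REmb k n) (ι : REmb l k) (g : iso σ l) :
    padHom (σ := σ) (e.comp ι) g = padHom e (padHom ι g) := mat_ext (pad_comp e ι _)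

theorem pad_apply {k : ℕ} (e : REmb k n) (A : Matrix (Fin k) (Fin k) K) (a b : Fin k) :
    pad e A (e.f a) (e.f b) = A a b := by
  rw [pad, Matrix.add_apply, Matrix.mul_apply, Finset.sum_eq_single b (fun c _ hc => by
    simp [REmb.mx, e.inj.eq_iff, Ne.symm hc]) (by simp), Matrix.mul_apply,
    Finset.sum_eq_single a (fun c _ hc => by simp [REmb.mx, e.inj.eq_iff, Ne.symm hc]) (by simp)]
  simp [REmb.mx, Matrix.one_apply, e.inj.eq_iff]

theorem pad_apply_of {k : ℕ} (e : REmb k n) (A : Matrix (Fin k) (Fin k) K) (i j : Fin n)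
    (h : (∀ a, i ≠ e.f a) ∨ (∀ b, j ≠ e.f b)) : pad e A i j = (1 : Matrix (Fin n) (Fin n) K) i j := by
  rw [pad, Matrix.add_apply, add_eq_left, Matrix.mul_apply]
  refine Finset.sum_eq_zero fun b _ => ?_
  rcases h with h | h
  · rw [Matrix.mul_apply, Finset.sum_eq_zero fun a _ => by simp [REmb.mx, h a], zero_mul]
  · simp [REmb.mx, h b]

theorem pad_cases {k : ℕ} (e : REmb k n) (A : Matrix (Fin k) (Fin k) K) (i j : Fin n) :
    pad e A i j = (1 : Matrix (Fin n) (Fin n) K) i j ∨ ∃ a b, i = e.f a ∧ j = e.f b := by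
  by_cases ha : ∃ a, i = e.f a
  · by_cases hb : ∃ b, j = e.f b
    · obtain ⟨a, rfl⟩ := ha
      obtain ⟨b, rfl⟩ := hb
      exact Or.inr ⟨a, b, rfl, rfl⟩
    · exact Or.inl (pad_apply_of e A i j (Or.inr fun b h => hb ⟨b, h⟩))
  · exact Or.inl (pad_apply_of e A i j (Or.inl fun a h => ha ⟨a, h⟩))

/-- A grading of the coordinates compatible with the reversal. -/
structure Gr (n : ℕ) where
  lv : Fin n → ℕ
  rev_le : ∀ x y, lv x ≤ lv y → lv y.rev ≤ lv x.rev

theorem Gr.rev_lt (G : Gr n) {x y : Fin n} (h : G.lv x < G.lv y) : G.lv y.rev < G.lv x.rev := by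
  by_contra hc
  have := G.rev_le _ _ (not_lt.mp hc)
  simp only [Fin.rev_rev] at this
  omega

variable (σ) in
/-- The parabolic subgroup of a grading. -/
def par (G : Gr n) : Subgroup (iso σ n) where
  carrier := {g | ∀ i j, G.lv j < G.lv i → mat g i j = 0}
  one_mem' := fun i j h => by rw [mat_one, Matrix.one_apply_ne]; rintro rfl; omega
  mul_mem' := fun {g h} hg hh i j hij => by
    rw [mat_mul, Matrix.mul_apply]
    refine Finset.sum_eq_zero fun k _ => ?_
    by_cases hk : G.lv k < G.lv i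
    · rw [hg i k hk, zero_mul]
    · rw [hh k j (lt_of_lt_of_le hij (not_lt.mp hk)), mul_zero]
  inv_mem' := fun {g} hg i j h => by
    rw [mat_inv, str_apply, hg _ _ (G.rev_lt h), map_zero]

variable (σ) in
/-- The radical of a grading. -/
def rad (G : Gr n) : Subgroup (iso σ n) where
  carrier := {g | ∀ i j, G.lv j ≤ G.lv i → mat g i j = (1 : Matrix (Fin n) (Fin n) K) i j}
  one_mem' := fun i j _ => by rw [mat_one]
  mul_mem' := fun {g h} hg hh i j hij => by
    rw [mat_mul, Matrix.mul_apply, Finset.sum_eq_single i (fun k _ hk => ?_) (by simp)]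
    · rw [hg i i le_rfl, hh i j hij, Matrix.one_apply_eq, one_mul]
    · by_cases hki : G.lv k ≤ G.lv i
      · rw [hg i k hki, Matrix.one_apply_ne (Ne.symm hk), zero_mul]
      · rw [hh k j (by omega), Matrix.one_apply_ne, mul_zero]
        rintro rfl
        omega
  inv_mem' := fun {g} hg i j h => by
    rw [mat_inv, str_apply, hg _ _ (G.rev_le _ _ h)]
    exact congrFun (congrFun (str_one σ (a := n)) i) j

theorem mem_par {G : Gr n} {g : iso σ n} : g ∈ par σ G ↔ ∀ i j, G.lv j < G.lv i → mat g i j = 0 := Iff.rfl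

theorem mem_rad {G : Gr n} {g : iso σ n} :
    g ∈ rad σ G ↔ ∀ i j, G.lv j ≤ G.lv i → mat g i j = (1 : Matrix (Fin n) (Fin n) K) i j := Iff.rfl

theorem par_conj {G : Gr n} {x r : iso σ n} (hx : x ∈ par σ G) (hr : r ∈ rad σ G) : x * r * x⁻¹ ∈ rad σ G := by
  intro i j hij
  have e : mat (x * r * x⁻¹) = 1 + mat x * (mat r - 1) * mat x⁻¹ := by
    rw [mat_mul, mat_mul, Matrix.mul_sub, Matrix.mul_one, Matrix.sub_mul, ← mat_mul x x⁻¹, mul_inv_cancel, mat_one]
    abel
  rw [e, Matrix.add_apply, add_eq_left, Matrix.mul_apply]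
  refine Finset.sum_eq_zero fun k _ => ?_
  by_cases hk : G.lv k ≤ G.lv i
  · rw [Matrix.mul_apply, Finset.sum_eq_zero fun l _ => ?_, zero_mul]
    by_cases hl : G.lv l < G.lv i
    · rw [hx i l hl, zero_mul]
    · rw [Matrix.sub_apply, hr l k (by omega), sub_self, mul_zero]
  · rw [(inv_mem hx : x⁻¹ ∈ par σ G) k j (by omega), mul_zero]

theorem rad_le_par (G : Gr n) : rad σ G ≤ par σ G := fun g hg i j h => by
  rw [hg i j h.le, Matrix.one_apply_ne]
  rintro rfl
  omega

theorem padHom_mem_rad {k : ℕ} (e : REmb k n) (G : Gr n) (g : iso σ k)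
    (h : ∀ a b, G.lv (e.f b) ≤ G.lv (e.f a) → mat g a b = (1 : Matrix (Fin k) (Fin k) K) a b) :
    padHom e g ∈ rad σ G := by
  intro i j hij
  rw [mat_padHom]
  rcases pad_cases e (mat g) i j with h1 | ⟨a, b, rfl, rfl⟩
  · exact h1
  · rw [pad_apply, h a b hij]
    simp [Matrix.one_apply, e.inj.eq_iff]

theorem padHom_mem_par {k : ℕ} (e : REmb k n) (G : Gr n) (g : iso σ k)
    (h : ∀ a b, G.lv (e.f b) < G.lv (e.f a) → mat g a b = 0) : padHom e g ∈ par σ G := by
  intro i j hij
  rw [mat_padHom]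
  rcases pad_cases e (mat g) i j with h1 | ⟨a, b, rfl, rfl⟩
  · rw [h1, Matrix.one_apply_ne]
    rintro rfl
    omega
  · rw [pad_apply, h a b hij]

theorem rad_isPGroup (p : ℕ) [Fact p.Prime] [CharP K p] (G : Gr n) : IsPGroup p (rad σ G) := by
  classical
  rintro ⟨g, hg⟩
  rcases n.eq_zero_or_pos with rfl | hn
  · exact ⟨0, Subtype.ext (mat_ext (Subsingleton.elim _ _))⟩
  have : NeZero n := ⟨hn.ne'⟩
  set L := Finset.univ.sup G.lv + 1 with hL
  refine ⟨L, Subtype.ext (mat_ext ?_)⟩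
  rw [Subgroup.coe_pow, Subgroup.coe_one, mat_pow, mat_one]
  set N := mat g - 1 with hN
  have hpow : ∀ m : ℕ, ∀ i j : Fin n, G.lv j < G.lv i + m → (N ^ m) i j = 0 := by
    intro m
    induction m with
    | zero => intro i j h; rw [pow_zero, Matrix.one_apply_ne]; rintro rfl; omega
    | succ m ih =>
      intro i j h
      rw [pow_succ, Matrix.mul_apply]
      refine Finset.sum_eq_zero fun k _ => ?_
      by_cases hk : G.lv k < G.lv i + m
      · rw [ih i k hk, zero_mul]
      · rw [hN, Matrix.sub_apply, hg k j (by omega), sub_self, mul_zero]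
  have hle : L ≤ p ^ L := (Nat.lt_pow_self (Fact.out : p.Prime).one_lt).le
  have hNL : N ^ L = 0 := Matrix.ext fun i j => hpow L i j (by
    have := Finset.le_sup (f := G.lv) (Finset.mem_univ j)
    omega)
  have h0 : N ^ (p ^ L) = 0 := pow_eq_zero_of_le hle hNL
  rw [hN, sub_pow_char_pow_of_commute _ _ (Commute.one_right _), one_pow, sub_eq_zero] at h0
  exact h0

theorem exists_pow_of_rad [Finite K] (p : ℕ) [Fact p.Prime] [CharP K p] {G : Gr n} {g : iso σ n} (hg : g ∈ rad σ G) :
    ∃ k : ℕ, orderOf g = p ^ k := by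
  obtain ⟨k, hk⟩ := IsPGroup.iff_orderOf.mp (rad_isPGroup p G) ⟨g, hg⟩
  exact ⟨k, (Subgroup.orderOf_coe (⟨g, hg⟩ : rad σ G)).trans hk⟩

end CfsgLib.SUFusion
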