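import Cfsg.Agent.SUFusion.Elements
set_option autoImplicit false

/-!
Sylow subgroup, centralisers of radicals and generators of the unitriangular group.
-/

namespace CfsgLib.SUFusion

open Matrix

variable {K : Type*} [Field K] {σ : K →+* K} {n : ℕ}

theorem REmb.ext' {k : ℕ} {e e' : REmb k n} (h : ∀ a, e.f a = e'.f a) : e = e' := by
  obtain ⟨f, _, _⟩ := e
  obtain ⟨f', _, _⟩ := e'
  obtain rfl : f = f' := funext h
  rfl

theorem comm_Z {g : iso σ n} {i : Fin n} (hi : 2 * (i : ℕ) + 1 ≠ n) {t : K} (ht0 : t ≠ 0) (ht : t + σ t = 0)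
    (h : g * Zr i hi t ht = Zr i hi t ht * g) :
    (∀ x, x ≠ i → mat g x i = 0) ∧ (∀ y, y ≠ i.rev → mat g i.rev y = 0) ∧ mat g i i = mat g i.rev i.rev := by
  set A := mat (u2 t ht) with hA
  have h' : mat g * pad (e2 i hi) A = pad (e2 i hi) A * mat g := congrArg mat h
  have hA' : A = !![1, t; 0, 1] := rfl
  have hcol := fun x b => congrFun (congrFun h' x) ((e2 i hi).f b)
  have hrow := fun a y => congrFun (congrFun h' ((e2 i hi).f a)) y
  have f0 : (e2 i hi).f 0 = i := rfl
  have f1 : (e2 i hi).f 1 = i.rev := rfl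
  have h10 : mat g i.rev i = 0 := by
    have e := hcol i.rev 1
    rw [mul_pad_apply] at e
    have e' := pad_mul_apply (e2 i hi) (mat g) A 1 ((e2 i hi).f 1)
    rw [f1] at e e'
    rw [e'] at e
    simp [Fin.sum_univ_two, hA', f0, f1] at e
    exact e.resolve_right ht0
  refine ⟨fun x hx => ?_, fun y hy => ?_, ?_⟩
  · by_cases hx' : x = i.rev
    · rw [hx']; exact h10
    have e := hcol x 1
    rw [mul_pad_apply, pad_mul_apply_of _ _ _ _ _ (fun a => by fin_cases a <;> simp [e2, hx, hx'])] at e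
    simp [Fin.sum_univ_two, hA', f0, f1] at e
    exact e.resolve_right ht0
  · by_cases hy' : y = i
    · rw [hy']; exact h10
    have e := hrow 0 y
    rw [pad_mul_apply, mul_pad_apply_of _ _ _ _ _ (fun a => by fin_cases a <;> simp [e2, hy, hy'])] at e
    simp [Fin.sum_univ_two, hA', f0, f1] at e
    exact e.resolve_left ht0
  · have e := hcol i 1
    rw [mul_pad_apply] at e
    have e' := pad_mul_apply (e2 i hi) (mat g) A 0 ((e2 i hi).f 1)
    rw [f0] at e'
    rw [e'] at e
    simp [Fin.sum_univ_two, hA', f0, f1] at e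
    exact mul_left_cancel₀ ht0 (by linear_combination e)

variable (hσ2 : ∀ x, σ (σ x) = x)

theorem mat_Xr (i j : Fin n) (hij : (i : ℕ) ≠ j) (hij' : (i : ℕ) + j + 1 ≠ n) (hi : 2 * (i : ℕ) + 1 ≠ n)
    (hj : 2 * (j : ℕ) + 1 ≠ n) (s : K) :
    mat (Xr hσ2 i j hij hij' hi hj s) =
      pad (e4 i j hij hij' hi hj) !![1, s, 0, 0; 0, 1, 0, 0; 0, 0, 1, -σ s; 0, 0, 0, 1] := by
  show pad _ (mat (phi hσ2 _)) = _
  congr 1
  simp [phi, mat_mk, SpecialLinearGroup.transvection_coe]

theorem comm_X {g : iso σ n} {i j : Fin n} (hij : (i : ℕ) ≠ j) (hij' : (i : ℕ) + j + 1 ≠ n)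
    (hi : 2 * (i : ℕ) + 1 ≠ n) (hj : 2 * (j : ℕ) + 1 ≠ n)
    (h : g * Xr hσ2 i j hij hij' hi hj 1 = Xr hσ2 i j hij hij' hi hj 1 * g) :
    (∀ y, y ≠ j → y ≠ i.rev → mat g j y = 0) ∧ mat g i i = mat g j j := by
  have h' : mat g * mat (Xr hσ2 i j hij hij' hi hj 1) = mat (Xr hσ2 i j hij hij' hi hj 1) * mat g :=
    congrArg mat h
  rw [mat_Xr] at h'
  set e := e4 i j hij hij' hi hj with he
  set A : Matrix (Fin 4) (Fin 4) K := !![1, 1, 0, 0; 0, 1, 0, 0; 0, 0, 1, -σ 1; 0, 0, 0, 1] with hA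
  have f0 : e.f 0 = i := rfl
  have f1 : e.f 1 = j := rfl
  have f2 : e.f 2 = j.rev := rfl
  have f3 : e.f 3 = i.rev := rfl
  have key : ∀ y, (mat g * pad e A) (e.f 0) y = mat g i y + mat g j y := by
    intro y
    rw [h', pad_mul_apply]
    simp [Fin.sum_univ_four, hA, f0, f1]
  refine ⟨fun y hy hy' => ?_, ?_⟩
  · by_cases hyi : y = i
    · have e' := key (e.f 0)
      rw [mul_pad_apply] at e'
      simp [Fin.sum_univ_four, hA, f0, f1] at e'
      rw [hyi]; exact e'
    by_cases hyj : y = j.rev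
    · have e' := key (e.f 2)
      rw [mul_pad_apply] at e'
      simp [Fin.sum_univ_four, hA, f0, f1, f2] at e'
      rw [hyj]; exact e'
    · have e' := key y
      rw [mul_pad_apply_of _ _ _ _ _ (fun a => by fin_cases a <;> simp [he, e4, hy, hy', hyi, hyj]), f0] at e'
      simpa using e'
  · have e' := key (e.f 1)
    rw [mul_pad_apply] at e'
    simp [Fin.sum_univ_four, hA, f0, f1] at e'
    linear_combination e'

theorem comm_M {g : iso σ n} {i c : Fin n} (hi : 2 * (i : ℕ) + 1 ≠ n) (hc : 2 * (c : ℕ) + 1 = n) {b : K}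
    (hb : b + σ b + 1 * σ 1 = 0) (hrow : ∀ y, y ≠ i.rev → mat g i.rev y = 0)
    (h : g * Mr hσ2 i c hi hc 1 b hb = Mr hσ2 i c hi hc 1 b hb * g) :
    (∀ y, y ≠ c → y ≠ i.rev → mat g c y = 0) ∧ mat g i i = mat g c c := by
  set e := e3 i c hi hc with he
  set A := mat (u3 hσ2 1 b hb) with hA0
  have h' : mat g * pad e A = pad e A * mat g := congrArg mat h
  have hA : A = !![1, 1, b; 0, 1, -σ 1; 0, 0, 1] := rfl
  have f0 : e.f 0 = i := rfl
  have f1 : e.f 1 = c := rfl
  have f2 : e.f 2 = i.rev := rfl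
  have key : ∀ y, (mat g * pad e A) (e.f 0) y = mat g i y + mat g c y + b * mat g i.rev y := by
    intro y
    rw [h', pad_mul_apply]
    simp [Fin.sum_univ_three, hA, f0, f1, f2]
  have hii : i ≠ i.rev := by simp [Fin.ext_iff, Fin.val_rev]; have := i.isLt; omega
  have hci : c ≠ i.rev := by simp [Fin.ext_iff, Fin.val_rev]; have := i.isLt; omega
  refine ⟨fun y hy hy' => ?_, ?_⟩
  · by_cases hyi : y = i
    · have e' := key (e.f 0)
      rw [mul_pad_apply, f0, hrow i hii] at e'
      simp [Fin.sum_univ_three, hA, f0] at e'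
      rw [hyi]; exact e'
    · have e' := key y
      rw [mul_pad_apply_of _ _ _ _ _ (fun a => by fin_cases a <;> simp [he, e3, hy, hy', hyi]), f0, hrow y hy'] at e'
      simpa using e'
  · have e' := key (e.f 1)
    rw [mul_pad_apply, f1, hrow c hci] at e'
    simp [Fin.sum_univ_three, hA, f0, f1] at e'
    linear_combination e'

variable (hne : σ ≠ RingHom.id K)

include hσ2 hne in
theorem comm_rad_sie (hn : 4 ≤ n) {g : iso σ n} (h : ∀ r ∈ rad σ (sieG : Gr n), g * r = r * g) :
    ∃ lam : K, ∀ i k, (sieG : Gr n).lv k ≤ (sieG : Gr n).lv i → mat g i k = if i = k then lam else 0 := by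
  obtain ⟨t, ht0, ht⟩ := exists_skew hne hσ2
  obtain ⟨b, hb⟩ := exists_half hne hσ2 1
  have hlo : ∀ i : Fin n, 2 * (i : ℕ) + 1 < n → (sieG : Gr n).lv i = 0 := fun i hi => by simp [sieG, hi]
  have hhi : ∀ i : Fin n, n < 2 * (i : ℕ) + 1 → (sieG : Gr n).lv i = 2 := fun i hi => by
    simp only [sieG]; rw [if_neg (by omega), if_neg (by omega)]
  have hmid : ∀ i : Fin n, 2 * (i : ℕ) + 1 = n → (sieG : Gr n).lv i = 1 := fun i hi => by
    simp only [sieG]; rw [if_neg (by omega), if_pos hi]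
  have hZ := fun (i : Fin n) (hi : 2 * (i : ℕ) + 1 < n) => comm_Z (g := g) hi.ne ht0 ht
    (h _ (Zr_mem _ (by rw [hlo i hi, hhi i.rev (by rw [Fin.val_rev]; omega)]; norm_num) t ht))
  obtain ⟨o, ho⟩ : ∃ o : Fin n, (o : ℕ) = 0 := ⟨⟨0, by omega⟩, rfl⟩
  have hoE : 2 * (o : ℕ) + 1 < n := by omega
  have hE : ∀ k : Fin n, 2 * (k : ℕ) + 1 < n → mat g k k = mat g o o := by
    intro k hk
    by_cases hko : k = o
    · rw [hko]
    have hne' : (o : ℕ) ≠ k := fun e => hko (Fin.ext e.symm)
    have h1 := (comm_X hσ2 (g := g) (i := o) (j := k.rev) (by rw [Fin.val_rev]; omega) (by rw [Fin.val_rev]; omega)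
      hoE.ne (by rw [Fin.val_rev]; omega)
      (h _ (Xr_mem hσ2 _ _ _ _ (by rw [hlo o hoE, hhi k.rev (by rw [Fin.val_rev]; omega)]; norm_num) 1))).2
    rw [(hZ k hk).2.2]
    exact h1.symm
  refine ⟨mat g o o, fun i k hik => ?_⟩
  rcases lt_trichotomy (2 * (i : ℕ) + 1) n with hi | hi | hi
  · rw [hlo i hi] at hik
    have hk : 2 * (k : ℕ) + 1 < n := by
      by_contra hk
      rcases (not_lt.mp hk).lt_or_eq with hk' | hk'
      · rw [hhi k hk'] at hik; omega
      · rw [hmid k hk'.symm] at hik; omega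
    by_cases hik' : i = k
    · rw [if_pos hik', ← hik', hE i hi]
    · rw [if_neg hik', (hZ k hk).1 i hik']
  · have hc := comm_M hσ2 hoE.ne hi hb (hZ o hoE).2.1
      (h _ (Mr_mem hσ2 _ hi (by rw [hlo o hoE, hmid i hi]; norm_num) 1 b hb))
    by_cases hik' : i = k
    · rw [if_pos hik', ← hik', hc.2]
    · rw [if_neg hik']
      refine hc.1 k (Ne.symm hik') ?_
      rintro rfl
      rw [hmid i hi, hhi o.rev (by rw [Fin.val_rev]; omega)] at hik
      omega
  · have hi' : 2 * (i.rev : ℕ) + 1 < n := by rw [Fin.val_rev]; omega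
    have := hZ i.rev hi'
    simp only [Fin.rev_rev] at this
    by_cases hik' : i = k
    · rw [if_pos hik', ← hik', ← this.2.2, hE _ hi']
    · rw [if_neg hik', this.2.1 k (Ne.symm hik')]

include hσ2 hne in
theorem comm_rad_hei (hn : 4 ≤ n) {g : iso σ n} (h : ∀ r ∈ rad σ (heiG : Gr n), g * r = r * g) :
    ∃ lam : K, ∀ i k, (heiG : Gr n).lv k ≤ (heiG : Gr n).lv i → mat g i k = if i = k then lam else 0 := by
  obtain ⟨t, ht0, ht⟩ := exists_skew hne hσ2
  obtain ⟨b, hb⟩ := exists_half hne hσ2 1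
  obtain ⟨o, ho⟩ : ∃ o : Fin n, (o : ℕ) = 0 := ⟨⟨0, by omega⟩, rfl⟩
  have hoE : 2 * (o : ℕ) + 1 ≠ n := by omega
  have hlo : (heiG : Gr n).lv o = 0 := by simp [heiG, ho]
  have hhi : ∀ i : Fin n, (i : ℕ) + 1 = n → (heiG : Gr n).lv i = 2 := fun i hi => by
    simp only [heiG]; rw [if_neg (by omega), if_pos hi]
  have hmid : ∀ i : Fin n, (i : ℕ) ≠ 0 → (i : ℕ) + 1 ≠ n → (heiG : Gr n).lv i = 1 := fun i h1 h2 => by
    simp only [heiG]; rw [if_neg h1, if_neg h2]
  have hor : (o.rev : ℕ) + 1 = n := by rw [Fin.val_rev]; omega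
  have hZ := comm_Z (g := g) hoE ht0 ht (h _ (Zr_mem hoE (by rw [hlo, hhi _ hor]; norm_num) t ht))
  have hM : ∀ j : Fin n, (j : ℕ) ≠ 0 → (j : ℕ) + 1 ≠ n →
      (∀ y, y ≠ j → y ≠ o.rev → mat g j y = 0) ∧ mat g o o = mat g j j := by
    intro j hj0 hj1
    by_cases hjc : 2 * (j : ℕ) + 1 = n
    · exact comm_M hσ2 hoE hjc hb hZ.2.1 (h _ (Mr_mem hσ2 hoE hjc (by rw [hlo, hmid j hj0 hj1]; norm_num) 1 b hb))
    · exact comm_X hσ2 (i := o) (j := j) (by omega) (by omega) hoE hjc
        (h _ (Xr_mem hσ2 _ _ _ _ (by rw [hlo, hmid j hj0 hj1]; norm_num) 1))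
  refine ⟨mat g o o, fun i k hik => ?_⟩
  by_cases hi0 : (i : ℕ) = 0
  · have hio : i = o := Fin.ext (by omega)
    subst hio
    have hk : k = i := by
      by_contra hk
      have hk0 : (k : ℕ) ≠ 0 := fun e => hk (Fin.ext (by omega))
      by_cases hk1 : (k : ℕ) + 1 = n
      · rw [hlo, hhi k hk1] at hik; omega
      · rw [hlo, hmid k hk0 hk1] at hik; omega
    subst hk
    simp
  by_cases hi1 : (i : ℕ) + 1 = n
  · have hio : i = o.rev := Fin.ext (by omega)
    subst hio
    by_cases hik' : o.rev = k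
    · subst hik'; rw [if_pos rfl, hZ.2.2]
    · rw [if_neg hik', hZ.2.1 k (Ne.symm hik')]
  · by_cases hik' : i = k
    · subst hik'; rw [if_pos rfl, (hM i hi0 hi1).2]
    · rw [if_neg hik']
      refine (hM i hi0 hi1).1 k (Ne.symm hik') ?_
      rintro rfl
      rw [hmid i hi0 hi1, hhi _ hor] at hik
      omega

include hσ2 in
theorem exists_scalar (hn : 0 < n) {G : Gr n} (hG : ∀ x y : Fin n, x ≤ y → G.lv x ≤ G.lv y) {g : iso σ n} {lam : K}
    (hg : ∀ i k, G.lv k ≤ G.lv i → mat g i k = if i = k then lam else 0) :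
    ∃ z : iso σ n, (∃ c : K, mat z = c • (1 : Matrix (Fin n) (Fin n) K)) ∧ z * g ∈ rad σ G := by
  obtain ⟨o, ho⟩ : ∃ o : Fin n, (o : ℕ) = 0 := ⟨⟨0, hn⟩, rfl⟩
  have hlam : σ lam * lam = 1 := by
    have h := congrFun (congrFun (str_mat_mul g) o) o
    rw [Matrix.mul_apply, Finset.sum_eq_single o (fun k _ hk => ?_) (by simp)] at h
    · rw [str_apply, hg _ _ le_rfl, if_pos rfl, hg o o le_rfl, if_pos rfl, Matrix.one_apply_eq] at h
      exact h
    · rw [hg k o (hG o k (by rw [Fin.le_def]; omega)), if_neg hk, mul_zero]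
  have hl : σ lam ^ n = 1 := by
    have h := mat_det g
    rw [Matrix.det_of_isUpperTriangular (fun i k hki => by
      rw [hg i k (hG k i (le_of_lt hki)), if_neg (ne_of_gt (show k < i from hki))])] at h
    simp only [hg _ _ le_rfl, if_pos, Finset.prod_const, Finset.card_univ, Fintype.card_fin] at h
    rw [← map_pow, h, map_one]
  let z : iso σ n := mk (σ lam • (1 : Matrix (Fin n) (Fin n) K))
    (by rw [Matrix.det_smul, Matrix.det_one, mul_one, Fintype.card_fin, hl])
    (by
      have : str σ (σ lam • (1 : Matrix (Fin n) (Fin n) K)) = lam • (1 : Matrix (Fin n) (Fin n) K) := by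
        ext i j
        simp only [str_apply, Matrix.smul_apply, smul_eq_mul, map_mul, hσ2]
        rw [show σ ((1 : Matrix (Fin n) (Fin n) K) j.rev i.rev) = (1 : Matrix (Fin n) (Fin n) K) i j from
          congrFun (congrFun (str_one σ (a := n)) i) j]
      rw [this, smul_mul_smul_comm, Matrix.mul_one, mul_comm, hlam, one_smul])
  refine ⟨z, ⟨σ lam, rfl⟩, fun i k hik => ?_⟩
  rw [mat_mul, mat_mk, Matrix.smul_mul, Matrix.one_mul, Matrix.smul_apply, smul_eq_mul, hg i k hik, Matrix.one_apply]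
  split_ifs with h
  · exact hlam
  · exact mul_zero _

include hσ2 hne in
theorem exists_superdiag (hn : 3 ≤ n) (a b : Fin n) (hab : (b : ℕ) = a + 1) :
    ∃ u ∈ uni σ n, mat u a b ≠ 0 := by
  obtain ⟨t, ht0, ht⟩ := exists_skew hne hσ2
  obtain ⟨d, hd⟩ := exists_half hne hσ2 1
  have := b.isLt
  by_cases h1 : 2 * (a : ℕ) + 3 < n
  · refine ⟨Xr hσ2 a b (by omega) (by omega) (by omega) (by omega) 1, Xr_mem hσ2 _ _ _ _ (by simp [idG]; omega) 1, ?_⟩
    rw [mat_Xr, pad_apply' (e4 a b (by omega) (by omega) (by omega) (by omega)) _ (x := a) (y := b) (a := 0) (b := 1) rfl rfl]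
    simp
  by_cases h2 : 2 * (a : ℕ) + 3 = n
  · refine ⟨Mr hσ2 a b (by omega) (by omega) 1 d hd, Mr_mem hσ2 _ _ (by simp [idG]; omega) 1 d hd, ?_⟩
    show pad _ _ ((e3 a b (by omega) (by omega)).f 0) ((e3 a b (by omega) (by omega)).f 1) ≠ 0
    rw [pad_apply]
    simp [u3, mat_mk]
  by_cases h3 : 2 * (a : ℕ) + 2 = n
  · refine ⟨Zr a (by omega) t ht, Zr_mem _ (by simp [idG, Fin.val_rev]; omega) t ht, ?_⟩
    have hb : b = (e2 a (by omega)).f 1 := Fin.ext (by simp [e2, Fin.val_rev]; omega)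
    rw [hb]
    show pad _ _ ((e2 a (by omega)).f 0) _ ≠ 0
    rw [pad_apply]
    simpa [u2, mat_mk] using ht0
  by_cases h4 : 2 * (a : ℕ) + 1 = n
  · refine ⟨Mr hσ2 b.rev a (by simp [Fin.val_rev]; omega) h4 1 d hd,
      Mr_mem hσ2 _ _ (by simp [idG, Fin.val_rev]; omega) 1 d hd, ?_⟩
    rw [Mr, mat_padHom, pad_apply' (e3 b.rev a (by simp [Fin.val_rev]; omega) h4) _ (x := a) (y := b) (a := 1) (b := 2) rfl (by simp [e3])]
    simp [u3, mat_mk]
  · refine ⟨Xr hσ2 b.rev a.rev (by simp [Fin.val_rev]; omega) (by simp [Fin.val_rev]; omega)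
      (by simp [Fin.val_rev]; omega) (by simp [Fin.val_rev]; omega) 1,
      Xr_mem hσ2 _ _ _ _ (by simp [idG, Fin.val_rev]; omega) 1, ?_⟩
    rw [mat_Xr, pad_apply' (e4 b.rev a.rev (by simp [Fin.val_rev]; omega) (by simp [Fin.val_rev]; omega)
      (by simp [Fin.val_rev]; omega) (by simp [Fin.val_rev]; omega)) _ (x := a) (y := b) (a := 2) (b := 3) (by simp [e4]) (by simp [e4])]
    simp

include hσ2 hne in
theorem mem_par_of_conj_mem (hn : 3 ≤ n) {g : iso σ n} (h : ∀ u ∈ uni σ n, g * u * g⁻¹ ∈ uni σ n) :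
    g ∈ par σ (idG : Gr n) := by
  suffices H : ∀ m : ℕ, ∀ i a : Fin n, n - (i : ℕ) = m → a < i → mat g i a = 0 from
    fun i a hai => H _ i a rfl hai
  intro m
  induction m using Nat.strong_induction_on with
  | _ m ih =>
    intro i a him hai
    induction hr : (a : ℕ) using Nat.strong_induction_on generalizing a with
    | _ r ih2 =>
      have han : (a : ℕ) + 1 < n := by have := i.isLt; have : (a : ℕ) < i := hai; omega
      obtain ⟨b, hb⟩ : ∃ b : Fin n, (b : ℕ) = a + 1 := ⟨⟨a + 1, han⟩, rfl⟩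
      obtain ⟨u, hu, hc⟩ := exists_superdiag hσ2 hne hn a b hb
      have hy := h u hu
      set y := g * u * g⁻¹ with hydef
      have e : mat g * mat u = mat y * mat g := by rw [← mat_mul, ← mat_mul, hydef, inv_mul_cancel_right]
      have e' := congrFun (congrFun e i) b
      have hR : (mat y * mat g) i b = mat g i b := by
        rw [Matrix.mul_apply, Finset.sum_eq_single i (fun z _ hz => ?_) (by simp)]
        · rw [hy i i le_rfl, Matrix.one_apply_eq, one_mul]
        · by_cases hzi : z < i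
          · rw [hy i z (show (z : ℕ) ≤ i from le_of_lt hzi), Matrix.one_apply_ne (Ne.symm hz), zero_mul]
          · have hiz : i < z := lt_of_le_of_ne (not_lt.mp hzi) (Ne.symm hz)
            rw [ih (n - z) (by have := z.isLt; have : (i : ℕ) < z := hiz; omega) z b rfl
              (by rw [Fin.lt_def]; have : (i : ℕ) < z := hiz; have : (a : ℕ) < i := hai; omega), mul_zero]
      have hab : a ≠ b := fun e => by rw [e] at hb; omega
      have hL : (mat g * mat u) i b = mat g i b + mat g i a * mat u a b := by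
        rw [Matrix.mul_apply, Finset.sum_eq_add b a hab.symm (fun z _ hz => ?_) (by simp) (by simp)]
        · rw [hu b b le_rfl, Matrix.one_apply_eq, mul_one]
        · by_cases hza : (z : ℕ) < a
          · rw [ih2 z (by omega) z (lt_trans (show z < a from hza) hai) rfl, zero_mul]
          · have : (b : ℕ) ≤ z := by
              have hz2 : (z : ℕ) ≠ a := fun e => hz.2 (Fin.ext e)
              omega
            rw [hu z b this, Matrix.one_apply_ne hz.1, mul_zero]
      rw [hL, hR] at e'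
      exact (mul_eq_zero.mp (by linear_combination e')).resolve_right hc

theorem pow_diag {g : iso σ n} (hg : g ∈ par σ (idG : Gr n)) (i : Fin n) (r : ℕ) :
    mat (g ^ r) i i = mat g i i ^ r := by
  induction r with
  | zero => simp [mat_one]
  | succ r ih =>
    rw [pow_succ, mat_mul, Matrix.mul_apply, Finset.sum_eq_single i (fun k _ hk => ?_) (by simp), ih, pow_succ]
    rcases lt_or_gt_of_ne hk with h | h
    · rw [(pow_mem hg r : g ^ r ∈ par σ (idG : Gr n)) i k h, zero_mul]
    · rw [hg k i h, mul_zero]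

include hσ2 hne in
theorem exists_sylow_uni [Finite K] (p : ℕ) [Fact p.Prime] [CharP K p] (hn : 3 ≤ n) :
    ∃ P : Sylow p (iso σ n), (P : Subgroup (iso σ n)) = uni σ n := by
  obtain ⟨P, hP⟩ := (rad_isPGroup (σ := σ) p (idG : Gr n)).exists_le_sylow
  refine ⟨P, le_antisymm ?_ hP⟩
  by_contra hlt
  have hne' : (uni σ n).subgroupOf P ≠ ⊤ := fun h => hlt (Subgroup.subgroupOf_eq_top.mp h)
  haveI : Group.IsNilpotent P := P.isPGroup'.isNilpotent
  have hlt' := Group.normalizerCondition_of_isNilpotent (G := P) _ (lt_top_iff_ne_top.mpr hne')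
  obtain ⟨⟨x, hxP⟩, hxN, hxU⟩ := SetLike.exists_of_lt hlt'
  have hb : x ∈ par σ (idG : Gr n) := mem_par_of_conj_mem hσ2 hne hn fun u hu =>
    (Subgroup.mem_normalizer_iff.mp hxN ⟨u, hP hu⟩).mp hu
  obtain ⟨k, hk⟩ := P.isPGroup' ⟨x, hxP⟩
  have hk' : x ^ (p ^ k) = 1 := congrArg Subtype.val hk
  refine hxU fun i j hji => ?_
  show mat x i j = _
  rcases (show j ≤ i from hji).lt_or_eq with h | h
  · rw [hb i j h, Matrix.one_apply_ne h.ne']
  subst h
  have h1 := pow_diag hb j (p ^ k)
  rw [hk', mat_one, Matrix.one_apply_eq] at h1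
  have : (mat x j j - 1) ^ (p ^ k) = 0 := by rw [sub_pow_char_pow, ← h1, one_pow, sub_self]
  rw [sub_eq_zero.mp (eq_zero_of_pow_eq_zero this), Matrix.one_apply_eq]

theorem row_to_col {g : iso σ n} {k : Fin n} (h : ∀ y, mat g k y = (1 : Matrix (Fin n) (Fin n) K) k y) (x : Fin n) :
    mat g x k.rev = (1 : Matrix (Fin n) (Fin n) K) x k.rev := by
  have e := congrFun (congrFun (congrArg mat (mul_inv_cancel g)) k) x.rev
  rw [mat_mul, mat_one, Matrix.mul_apply, Finset.sum_eq_single k (fun z _ hz => by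
    rw [h z, Matrix.one_apply_ne (Ne.symm hz), zero_mul]) (by simp), h k, Matrix.one_apply_eq, one_mul, mat_inv,
    str_apply, Fin.rev_rev, Matrix.one_apply] at e
  apply σ.injective
  rw [e, Matrix.one_apply]
  by_cases hx : k = x.rev
  · rw [if_pos hx, if_pos (by rw [hx, Fin.rev_rev]), map_one]
  · rw [if_neg hx, if_neg (fun e' => hx (by rw [e', Fin.rev_rev])), map_zero]

include hne in
theorem uni_le_of_roots (hn : 2 ≤ n) (T : Subgroup (iso σ n))
    (hZ : ∀ (i : Fin n) (hi : 2 * (i : ℕ) + 1 < n) (t : K) (ht : t + σ t = 0), Zr i hi.ne t ht ∈ T)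
    (hX : ∀ (i j : Fin n) (hij : (i : ℕ) < j) (hij' : (i : ℕ) + j + 1 < n) (hj : 2 * (j : ℕ) + 1 ≠ n) (s : K),
      Xr hσ2 i j hij.ne hij'.ne (by omega) hj s ∈ T)
    (hM : ∀ (i c : Fin n) (hi : 2 * (i : ℕ) + 1 < n) (hc : 2 * (c : ℕ) + 1 = n) (a b : K)
      (h : b + σ b + a * σ a = 0), Mr hσ2 i c hi.ne hc a b h ∈ T) : uni σ n ≤ T := by
  suffices H : ∀ d : ℕ, ∀ g ∈ uni σ n, (∀ i : Fin n, (i : ℕ) + d < n → ∀ y, mat g i y = (1 : Matrix (Fin n) (Fin n) K) i y) → g ∈ T from
    fun g hg => H n g hg (fun i hi => absurd hi (by omega))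
  intro d
  induction d with
  | zero =>
    intro g hg hrow
    have : g = 1 := mat_ext (Matrix.ext fun x y => by rw [mat_one]; exact hrow x (by simpa using x.isLt) y)
    rw [this]; exact one_mem _
  | succ d ih =>
    intro g hg hrow
    by_cases hdn : n ≤ d
    · exact ih g hg fun i hi => absurd hi (by omega)
    obtain ⟨k, hk⟩ : ∃ k : Fin n, (k : ℕ) + d + 1 = n := ⟨⟨n - d - 1, by omega⟩, by simp; omega⟩
    by_cases hkE : n ≤ 2 * (k : ℕ) + 1
    · have hg1 : g = 1 := mat_ext (Matrix.ext fun x y => by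
        rw [mat_one]
        by_cases hyx : y ≤ x
        · exact hg x y hyx
        have hxy : (x : ℕ) < y := not_le.mp hyx
        by_cases hxE : 2 * (x : ℕ) + 1 < n
        · exact hrow x (by omega) y
        · have hy := row_to_col (g := g) (k := y.rev) (hrow y.rev (by rw [Fin.val_rev]; omega)) x
          rwa [Fin.rev_rev] at hy)
      rw [hg1]; exact one_mem _
    push Not at hkE
    suffices H2 : ∀ e : ℕ, ∀ g ∈ uni σ n,
        (∀ i : Fin n, (i : ℕ) + (d + 1) < n → ∀ y, mat g i y = (1 : Matrix (Fin n) (Fin n) K) i y) →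
        (∀ y : Fin n, (k : ℕ) < y → (y : ℕ) + (k : ℕ) + 1 + e < n → mat g k y = 0) → g ∈ T from
      H2 n g hg hrow (fun y _ hy => absurd hy (by omega))
    intro e
    induction e with
    | zero =>
      intro g hg hrow hzero
      have hcol : ∀ z : Fin n, (k.rev : ℕ) < z → mat g k z = 0 := by
        intro z hz
        have h1 := row_to_col (g := g) (k := z.rev) (hrow z.rev (by rw [Fin.val_rev] at hz ⊢; omega)) k
        rw [Fin.rev_rev, Matrix.one_apply_ne] at h1
        · exact h1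
        · intro e; rw [← e, Fin.val_rev] at hz; omega
      have hkk : (k : ℕ) < k.rev := by rw [Fin.val_rev]; omega
      have ht : mat g k k.rev + σ (mat g k k.rev) = 0 := by
        have e := congrFun (congrFun (congrArg mat (mul_inv_cancel g)) k) k.rev
        rw [mat_mul, mat_one, Matrix.mul_apply, Finset.sum_eq_add k k.rev (fun e => by rw [← e] at hkk; omega)
          (fun z _ hz => ?_) (by simp) (by simp), Matrix.one_apply_ne (fun e => by rw [← e] at hkk; omega)] at e
        · rw [mat_inv, str_apply, str_apply, Fin.rev_rev, hg k k le_rfl, Matrix.one_apply_eq, one_mul, map_one,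
            mul_one] at e
          linear_combination e
        · rcases lt_trichotomy (z : ℕ) k with h | h | h
          · rw [hg k z h.le, Matrix.one_apply_ne (fun e => by rw [← e] at h; omega), zero_mul]
          · exact absurd (Fin.ext h) hz.1
          · rcases lt_trichotomy (z : ℕ) k.rev with h' | h' | h'
            · rw [hzero z h (by rw [Fin.val_rev] at h'; omega), zero_mul]
            · exact absurd (Fin.ext h') hz.2
            · rw [hcol z h', zero_mul]
      set x := Zr k hkE.ne (-mat g k k.rev) (by rw [map_neg]; linear_combination -ht) with hx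
      have hxT : x ∈ T := hZ k hkE _ _
      have hxU : x ∈ uni σ n := Zr_mem _ (show (k : ℕ) < k.rev from hkk) _ _
      have : g * x ∈ T := by
        refine ih _ (mul_mem hg hxU) fun i hi y => ?_
        rcases (show (i : ℕ) ≤ k by omega).lt_or_eq with hik | hik
        · rw [mat_mul, Matrix.mul_apply, Finset.sum_eq_single i (fun z _ hz => by
            rw [hrow i (by omega) z, Matrix.one_apply_ne (Ne.symm hz), zero_mul]) (by simp),
            hrow i (by omega) i, Matrix.one_apply_eq, one_mul, hx, Zr, mat_padHom,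
            pad_apply_of _ _ _ _ (Or.inl fun a => ?_)]
          fin_cases a <;> simp [e2, Fin.ext_iff] <;> omega
        · obtain rfl : i = k := Fin.ext hik
          rw [mat_mul, hx, Zr, mat_padHom]
          have f0 : (e2 i hkE.ne).f 0 = i := rfl
          have f1 : (e2 i hkE.ne).f 1 = i.rev := rfl
          by_cases hy : ∃ b, y = (e2 i hkE.ne).f b
          · obtain ⟨b, rfl⟩ := hy
            rw [mul_pad_apply]
            fin_cases b <;>
              simp [Fin.sum_univ_two, u2, mat_mk, f0, f1, hg i i le_rfl, Matrix.one_apply, Fin.ext_iff] <;> omega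
          · push Not at hy
            rw [mul_pad_apply_of _ _ _ _ _ hy]
            have hyk : y ≠ i := fun e => hy 0 e
            have hyk' : y ≠ i.rev := fun e => hy 1 e
            rw [Matrix.one_apply_ne (Ne.symm hyk)]
            rcases lt_trichotomy (y : ℕ) i with h | h | h
            · rw [hg i y h.le, Matrix.one_apply_ne (Ne.symm hyk)]
            · exact absurd (Fin.ext h) hyk
            · rcases lt_trichotomy (y : ℕ) i.rev with h' | h' | h'
              · exact hzero y h (by rw [Fin.val_rev] at h'; omega)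
              · exact absurd (Fin.ext h') hyk'
              · exact hcol y h'
      have h2 := mul_mem this (inv_mem hxT)
      rwa [mul_inv_cancel_right] at h2
    | succ e ih2 =>
      intro g hg hrow hzero
      by_cases hbd : n ≤ 2 * (k : ℕ) + 2 + e
      · exact ih2 g hg hrow fun y hy hy' => absurd hy' (by omega)
      obtain ⟨j, hj⟩ : ∃ j : Fin n, (j : ℕ) + k + 1 + e + 1 = n := ⟨⟨n - k - 2 - e, by omega⟩, by simp; omega⟩
      set a := mat g k j with ha
      obtain ⟨x, hxT, hxU, hrows, hkill, hsame⟩ : ∃ x ∈ T, x ∈ uni σ n ∧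
          (∀ i : Fin n, (i : ℕ) < k → ∀ y, mat x i y = (1 : Matrix (Fin n) (Fin n) K) i y) ∧
          mat (g * x) k j = 0 ∧
          ∀ y : Fin n, (k : ℕ) < y → (y : ℕ) < j → mat (g * x) k y = 0 := by
        have hgkk : mat g k k = 1 := by rw [hg k k le_rfl, Matrix.one_apply_eq]
        have hlt : ∀ y : Fin n, (k : ℕ) < y → (y : ℕ) < j → mat g k y = 0 := fun y h1 h2 => hzero y h1 (by omega)
        by_cases hjc : 2 * (j : ℕ) + 1 = n
        · obtain ⟨b, hb⟩ := exists_half hne hσ2 (-a)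
          set E3 := e3 k j hkE.ne hjc with hE
          refine ⟨Mr hσ2 k j hkE.ne hjc (-a) b hb, hM k j hkE hjc _ _ hb,
            Mr_mem hσ2 _ _ (show (k : ℕ) < j by omega) _ _ _, fun i hi y => ?_, ?_, fun y h1 h2 => ?_⟩
          · rw [Mr, mat_padHom, pad_apply_of _ _ _ _ (Or.inl fun u => ?_)]
            fin_cases u <;> simp [e3, Fin.ext_iff] <;> omega
          · rw [mat_mul]
            show (mat g * pad E3 (mat (u3 hσ2 (-a) b hb))) k (E3.f 1) = 0
            rw [mul_pad_apply]
            simp [Fin.sum_univ_three, u3, mat_mk, hE, e3, hgkk, ← ha]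
          · rw [mat_mul]
            show (mat g * pad E3 (mat (u3 hσ2 (-a) b hb))) k y = 0
            rw [mul_pad_apply_of _ _ _ _ _ (fun u => ?_)]
            · exact hlt y h1 h2
            fin_cases u <;> simp [hE, e3, Fin.ext_iff] <;> omega
        · have hkj : (k : ℕ) < j := by omega
          have hkj' : (k : ℕ) + j + 1 < n := by omega
          set E4 := e4 k j hkj.ne hkj'.ne hkE.ne hjc with hE
          refine ⟨Xr hσ2 k j hkj.ne hkj'.ne hkE.ne hjc (-a), hX k j hkj hkj' hjc _,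
            Xr_mem hσ2 _ _ _ _ (show (k : ℕ) < j from hkj) _, fun i hi y => ?_, ?_, fun y h1 h2 => ?_⟩
          · rw [mat_Xr, pad_apply_of _ _ _ _ (Or.inl fun u => ?_)]
            fin_cases u <;> simp [e4, Fin.ext_iff] <;> omega
          · rw [mat_mul, mat_Xr]
            show (mat g * pad E4 !![1, -a, 0, 0; 0, 1, 0, 0; 0, 0, 1, -σ (-a); 0, 0, 0, 1]) k (E4.f 1) = 0
            rw [mul_pad_apply]
            simp [Fin.sum_univ_four, hE, e4, hgkk, ← ha]
          · rw [mat_mul, mat_Xr]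
            by_cases hyj : y = j.rev
            · show (mat g * pad E4 !![1, -a, 0, 0; 0, 1, 0, 0; 0, 0, 1, -σ (-a); 0, 0, 0, 1]) k y = 0
              rw [show y = E4.f 2 from hyj, mul_pad_apply]
              simp [Fin.sum_univ_four, hE, e4]
              exact hlt _ (hyj ▸ h1) (hyj ▸ h2)
            · rw [mul_pad_apply_of _ _ _ _ _ (fun u => ?_)]
              · exact hlt y h1 h2
              fin_cases u <;> simp [e4, Fin.ext_iff] <;> (try simp [Fin.ext_iff] at hyj) <;> omega
      have : g * x ∈ T := by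
        refine ih2 _ (mul_mem hg hxU) (fun i hi y => ?_) fun y h1 h2 => ?_
        · rw [mat_mul, Matrix.mul_apply, Finset.sum_eq_single i (fun z _ hz => by
            rw [hrow i hi z, Matrix.one_apply_ne (Ne.symm hz), zero_mul]) (by simp),
            hrow i hi i, Matrix.one_apply_eq, one_mul, hrows i (by omega)]
        · rcases lt_trichotomy (y : ℕ) j with h | h | h
          · exact hsame y h1 h
          · rw [show y = j from Fin.ext h]; exact hkill
          · omega
      have h2 := mul_mem this (inv_mem hxT)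
      rwa [mul_inv_cancel_right] at h2

end CfsgLib.SUFusion
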