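import Cfsg.Agent.SL2.Elements
import Cfsg.Agent.SUFusion.Structure
import Cfsg.Agent.PReduced.Hom
set_option autoImplicit false

/-!
A nontrivial fusion-closed subgroup of the unitriangular group is the whole of it.
-/

namespace CfsgLib.SUFusion

open Matrix

variable {K : Type*} [Field K] {σ : K →+* K} {n : ℕ}

theorem padHom_Zr {k : ℕ} (e : REmb k n) (a : Fin k) (ha : 2 * (a : ℕ) + 1 ≠ k) {i : Fin n}
    (hi : 2 * (i : ℕ) + 1 ≠ n) (h : e.f a = i) (t : K) (ht : t + σ t = 0) :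
    padHom e (Zr a ha t ht) = Zr i hi t ht := by
  rw [Zr, Zr, ← padHom_comp, REmb.ext' (e := e.comp (e2 a ha)) (e' := e2 i hi) fun x => by
    fin_cases x <;> simp [REmb.comp, e2, e.rev_f, h]]

variable (hσ2 : ∀ x, σ (σ x) = x)

theorem padHom_Mr {k : ℕ} (e : REmb k n) (a d : Fin k) (ha : 2 * (a : ℕ) + 1 ≠ k) (hd : 2 * (d : ℕ) + 1 = k)
    {i c : Fin n} (hi : 2 * (i : ℕ) + 1 ≠ n) (hc : 2 * (c : ℕ) + 1 = n) (h : e.f a = i) (h' : e.f d = c)
    (u v : K) (huv : v + σ v + u * σ u = 0) :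
    padHom e (Mr hσ2 a d ha hd u v huv) = Mr hσ2 i c hi hc u v huv := by
  rw [Mr, Mr, ← padHom_comp, REmb.ext' (e := e.comp (e3 a d ha hd)) (e' := e3 i c hi hc) fun x => by
    fin_cases x <;> simp [REmb.comp, e3, e.rev_f, h, h']]

theorem padHom_Xr {k : ℕ} (e : REmb k n) (a b : Fin k) (h1 : (a : ℕ) ≠ b) (h2 : (a : ℕ) + b + 1 ≠ k)
    (h3 : 2 * (a : ℕ) + 1 ≠ k) (h4 : 2 * (b : ℕ) + 1 ≠ k) {i j : Fin n} (g1 : (i : ℕ) ≠ j)
    (g2 : (i : ℕ) + j + 1 ≠ n) (g3 : 2 * (i : ℕ) + 1 ≠ n) (g4 : 2 * (j : ℕ) + 1 ≠ n) (h : e.f a = i)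
    (h' : e.f b = j) (s : K) : padHom e (Xr hσ2 a b h1 h2 h3 h4 s) = Xr hσ2 i j g1 g2 g3 g4 s := by
  show padHom e (padHom _ _) = padHom _ _
  rw [← padHom_comp, REmb.ext' (e := e.comp (e4 a b h1 h2 h3 h4)) (e' := e4 i j g1 g2 g3 g4) fun x => by
    fin_cases x <;> simp [REmb.comp, e4, e.rev_f, h, h']]

theorem mat_Zr (i : Fin n) (hi : 2 * (i : ℕ) + 1 ≠ n) (t : K) (ht : t + σ t = 0) :
    mat (Zr i hi t ht) = pad (e2 i hi) !![1, t; 0, 1] := rfl

theorem mat_Mr (i c : Fin n) (hi : 2 * (i : ℕ) + 1 ≠ n) (hc : 2 * (c : ℕ) + 1 = n) (a b : K)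
    (h : b + σ b + a * σ a = 0) :
    mat (Mr hσ2 i c hi hc a b h) = pad (e3 i c hi hc) !![1, a, b; 0, 1, -σ a; 0, 0, 1] := rfl

/-- The Weyl element of `SL₂`. -/
def sw : SpecialLinearGroup (Fin 2) K := CfsgLib.SL2.mk2 (0 : K) 1 (-1) 0 (by ring)

theorem Z4_zero (t : K) (ht : t + σ t = 0) :
    mat (Zr (σ := σ) (0 : Fin 4) (by decide) t ht) = !![1, 0, 0, t; 0, 1, 0, 0; 0, 0, 1, 0; 0, 0, 0, 1] := by
  rw [mat_Zr]
  ext i j
  fin_cases i <;> fin_cases j <;> simp [pad, REmb.mx, e2, Matrix.mul_apply, Fin.sum_univ_two, Fin.rev]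

theorem Z4_one (t : K) (ht : t + σ t = 0) :
    mat (Zr (σ := σ) (1 : Fin 4) (by decide) t ht) = !![1, 0, 0, 0; 0, 1, t, 0; 0, 0, 1, 0; 0, 0, 0, 1] := by
  rw [mat_Zr]
  ext i j
  fin_cases i <;> fin_cases j <;> simp [pad, REmb.mx, e2, Matrix.mul_apply, Fin.sum_univ_two, Fin.rev]

theorem X4_one (s : K) :
    mat (Xr hσ2 (0 : Fin 4) 1 (by decide) (by decide) (by decide) (by decide) s) =
      !![1, s, 0, 0; 0, 1, 0, 0; 0, 0, 1, -σ s; 0, 0, 0, 1] := by
  rw [mat_Xr]
  ext i j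
  fin_cases i <;> fin_cases j <;> simp [pad, REmb.mx, e4, Matrix.mul_apply, Fin.sum_univ_four, Fin.rev]

theorem X4_two (s : K) :
    mat (Xr hσ2 (0 : Fin 4) 2 (by decide) (by decide) (by decide) (by decide) s) =
      !![1, 0, s, 0; 0, 1, 0, -σ s; 0, 0, 1, 0; 0, 0, 0, 1] := by
  rw [mat_Xr]
  ext i j
  fin_cases i <;> fin_cases j <;> simp [pad, REmb.mx, e4, Matrix.mul_apply, Fin.sum_univ_four, Fin.rev]

theorem swap_Z (t : K) (ht : t + σ t = 0) :
    phi hσ2 sw * Zr (0 : Fin 4) (by decide) t ht * (phi hσ2 sw)⁻¹ = Zr (1 : Fin 4) (by decide) t ht := by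
  rw [mul_inv_eq_iff_eq_mul]
  refine mat_ext ?_
  rw [mat_mul, mat_mul, Z4_zero, Z4_one]
  ext i j
  fin_cases i <;> fin_cases j <;> simp [phi, mat_mk, sw, CfsgLib.SL2.mk2, Matrix.mul_apply, Fin.sum_univ_four]

theorem scale_Z (s : Kˣ) (t : K) (ht : t + σ t = 0) (ht' : (s : K) * σ s * t + σ ((s : K) * σ s * t) = 0) :
    phi hσ2 (CfsgLib.SL2.diagT s) * Zr (0 : Fin 4) (by decide) t ht * (phi hσ2 (CfsgLib.SL2.diagT s))⁻¹ =
      Zr (0 : Fin 4) (by decide) ((s : K) * σ s * t) ht' := by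
  rw [mul_inv_eq_iff_eq_mul]
  refine mat_ext ?_
  have h : σ (s : K) ≠ 0 := (map_ne_zero σ).mpr s.ne_zero
  rw [mat_mul, mat_mul, Z4_zero, Z4_zero]
  ext i j
  fin_cases i <;> fin_cases j <;>
    simp [phi, mat_mk, CfsgLib.SL2.diagT, CfsgLib.SL2.mk2, Matrix.mul_apply, Fin.sum_univ_four]
  field_simp

theorem swap_X (b0 : K) (hb0 : b0 ≠ 0) (hb : b0 + σ b0 = 0) (v : K) :
    padHom (e2 (1 : Fin 4) (by decide)) (w2 b0 hb0 hb) *
        Xr hσ2 (0 : Fin 4) 2 (by decide) (by decide) (by decide) (by decide) (v * b0) *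
        (padHom (e2 (1 : Fin 4) (by decide)) (w2 b0 hb0 hb))⁻¹ =
      Xr hσ2 (0 : Fin 4) 1 (by decide) (by decide) (by decide) (by decide) v := by
  rw [mul_inv_eq_iff_eq_mul]
  refine mat_ext ?_
  have hw : mat (padHom (e2 (1 : Fin 4) (by decide)) (w2 b0 hb0 hb)) =
      !![1, 0, 0, 0; 0, 0, b0, 0; 0, (σ b0)⁻¹, 0, 0; 0, 0, 0, 1] := by
    rw [mat_padHom]
    ext i j
    fin_cases i <;> fin_cases j <;> simp [pad, REmb.mx, e2, w2, mat_mk, Matrix.mul_apply, Fin.sum_univ_two, Fin.rev]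
  have h : σ b0 ≠ 0 := (map_ne_zero σ).mpr hb0
  rw [mat_mul, mat_mul, hw, X4_one, X4_two]
  ext i j
  fin_cases i <;> fin_cases j <;> simp [Matrix.mul_apply, Fin.sum_univ_four]
  field_simp

theorem comm_ZX (s t : K) (ht : t + σ t = 0) (ht' : t * (s * σ s) + σ (t * (s * σ s)) = 0) :
    Xr hσ2 (0 : Fin 4) 1 (by decide) (by decide) (by decide) (by decide) s * Zr (1 : Fin 4) (by decide) t ht =
      Zr (0 : Fin 4) (by decide) (t * (s * σ s)) ht' *
        Xr hσ2 (0 : Fin 4) 2 (by decide) (by decide) (by decide) (by decide) (t * s) *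
        Zr (1 : Fin 4) (by decide) t ht *
        Xr hσ2 (0 : Fin 4) 1 (by decide) (by decide) (by decide) (by decide) s := by
  refine mat_ext ?_
  simp only [mat_mul, Z4_zero, Z4_one, X4_one, X4_two]
  ext i j
  fin_cases i <;> fin_cases j <;> simp [Matrix.mul_apply, Fin.sum_univ_four] <;>
    first
      | ring1
      | linear_combination (σ s) * ht
      | linear_combination -(σ s) * ht
      | linear_combination s * ht
      | linear_combination -s * ht

theorem M5_zero (a b : K) (h : b + σ b + a * σ a = 0) :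
    mat (Mr hσ2 (0 : Fin 5) 2 (by decide) (by decide) a b h) =
      !![1, 0, a, 0, b; 0, 1, 0, 0, 0; 0, 0, 1, 0, -σ a; 0, 0, 0, 1, 0; 0, 0, 0, 0, 1] := by
  rw [mat_Mr]
  ext i j
  fin_cases i <;> fin_cases j <;> simp [pad, REmb.mx, e3, Matrix.mul_apply, Fin.sum_univ_three, Fin.rev]

theorem M5_one (a b : K) (h : b + σ b + a * σ a = 0) :
    mat (Mr hσ2 (1 : Fin 5) 2 (by decide) (by decide) a b h) =
      !![1, 0, 0, 0, 0; 0, 1, a, b, 0; 0, 0, 1, -σ a, 0; 0, 0, 0, 1, 0; 0, 0, 0, 0, 1] := by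
  rw [mat_Mr]
  ext i j
  fin_cases i <;> fin_cases j <;> simp [pad, REmb.mx, e3, Matrix.mul_apply, Fin.sum_univ_three, Fin.rev]

theorem X5_one (s : K) :
    mat (Xr hσ2 (0 : Fin 5) 1 (by decide) (by decide) (by decide) (by decide) s) =
      !![1, s, 0, 0, 0; 0, 1, 0, 0, 0; 0, 0, 1, 0, 0; 0, 0, 0, 1, -σ s; 0, 0, 0, 0, 1] := by
  rw [mat_Xr]
  ext i j
  fin_cases i <;> fin_cases j <;> simp [pad, REmb.mx, e4, Matrix.mul_apply, Fin.sum_univ_four, Fin.rev]

theorem X5_three (s : K) :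
    mat (Xr hσ2 (0 : Fin 5) 3 (by decide) (by decide) (by decide) (by decide) s) =
      !![1, 0, 0, s, 0; 0, 1, 0, 0, -σ s; 0, 0, 1, 0, 0; 0, 0, 0, 1, 0; 0, 0, 0, 0, 1] := by
  rw [mat_Xr]
  ext i j
  fin_cases i <;> fin_cases j <;> simp [pad, REmb.mx, e4, Matrix.mul_apply, Fin.sum_univ_four, Fin.rev]

theorem comm_MX (a b : K) (h : b + σ b + a * σ a = 0) :
    Xr hσ2 (0 : Fin 5) 1 (by decide) (by decide) (by decide) (by decide) 1 *
        Mr hσ2 (1 : Fin 5) 2 (by decide) (by decide) a b h =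
      Mr hσ2 (0 : Fin 5) 2 (by decide) (by decide) a b h *
        Xr hσ2 (0 : Fin 5) 3 (by decide) (by decide) (by decide) (by decide) (-σ b) *
        Mr hσ2 (1 : Fin 5) 2 (by decide) (by decide) a b h *
        Xr hσ2 (0 : Fin 5) 1 (by decide) (by decide) (by decide) (by decide) 1 := by
  refine mat_ext ?_
  simp only [mat_mul, M5_zero, M5_one, X5_one, X5_three]
  ext i j
  fin_cases i <;> fin_cases j <;> simp [Matrix.mul_apply, Fin.sum_univ_five, hσ2] <;>
    first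
      | ring1
      | linear_combination h
      | linear_combination -h

theorem swap_M (a b : K) (h : b + σ b + a * σ a = 0) (h' : b + σ b + -a * σ (-a) = 0) :
    x4 hσ2 (0 : Fin 5) 1 (by decide) (by decide) (by decide) (by decide) sw *
        Mr hσ2 (0 : Fin 5) 2 (by decide) (by decide) (-a) b h' *
        (x4 hσ2 (0 : Fin 5) 1 (by decide) (by decide) (by decide) (by decide) sw)⁻¹ =
      Mr hσ2 (1 : Fin 5) 2 (by decide) (by decide) a b h := by
  rw [mul_inv_eq_iff_eq_mul]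
  refine mat_ext ?_
  have hw : mat (x4 hσ2 (0 : Fin 5) 1 (by decide) (by decide) (by decide) (by decide) (sw (K := K))) =
      !![0, 1, 0, 0, 0; -1, 0, 0, 0, 0; 0, 0, 1, 0, 0; 0, 0, 0, 0, -1; 0, 0, 0, 1, 0] := by
    show pad _ (mat (phi hσ2 _)) = _
    ext i j
    fin_cases i <;> fin_cases j <;>
      simp [pad, REmb.mx, e4, phi, mat_mk, sw, CfsgLib.SL2.mk2, Matrix.mul_apply, Fin.sum_univ_four, Fin.rev]
  rw [mat_mul, mat_mul, hw, M5_zero, M5_one]
  ext i j
  fin_cases i <;> fin_cases j <;> simp [Matrix.mul_apply, Fin.sum_univ_five]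

variable (hne : σ ≠ RingHom.id K)

include hσ2 hne in
/-- A fusion-closed nontrivial subgroup of the unitriangular group contains all of it. -/
theorem uni_le_of_closed [Finite K] (p : ℕ) [Fact p.Prime] [CharP K p] (hn : 4 ≤ n) (T : Subgroup (iso σ n))
    (hT : T ≤ uni σ n) (hTne : T ≠ ⊥)
    (hcl : ∀ g : iso σ n, ∀ t ∈ T, g * t * g⁻¹ ∈ uni σ n → g * t * g⁻¹ ∈ T) : uni σ n ≤ T := by
  classical
  have hnorm : ∀ u ∈ uni σ n, ∀ t ∈ T, u * t * u⁻¹ ∈ T := fun u hu t ht =>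
    hcl u t ht (mul_mem (mul_mem hu (hT ht)) (inv_mem hu))
  haveI : (T.subgroupOf (uni σ n)).Normal := ⟨fun t ht u => hnorm u u.2 t ht⟩
  have hne' : T.subgroupOf (uni σ n) ≠ ⊥ := by
    intro h
    refine hTne ((Subgroup.eq_bot_iff_forall _).mpr fun x hx => ?_)
    have : (⟨x, hT hx⟩ : uni σ n) ∈ T.subgroupOf (uni σ n) := hx
    rw [h, Subgroup.mem_bot] at this
    exact congrArg Subtype.val this
  have hP : IsPGroup p (uni σ n) := rad_isPGroup p _
  have hnt : T.subgroupOf (uni σ n) ⊓ Subgroup.center (uni σ n) ≠ ⊥ :=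
    CfsgLib.PReduced.inf_center_ne_bot hP hne'
  obtain ⟨⟨z, hzU⟩, ⟨hzT, hzC⟩, hz1⟩ : ∃ w : uni σ n,
      w ∈ T.subgroupOf (uni σ n) ⊓ Subgroup.center (uni σ n) ∧ w ≠ 1 := by
    by_contra hc
    push Not at hc
    exact hnt ((Subgroup.eq_bot_iff_forall _).mpr hc)
  have hzc : ∀ r ∈ uni σ n, z * r = r * z := fun r hr =>
    (congrArg Subtype.val (Subgroup.mem_center_iff.mp hzC ⟨r, hr⟩)).symm
  replace hzT : z ∈ T := hzT
  obtain ⟨lam, hlam⟩ := comm_rad_hei hσ2 hne hn (g := z) fun r hr => hzc r (rad_le_uni hei_mono hr)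
  obtain ⟨o, ho⟩ : ∃ o : Fin n, (o : ℕ) = 0 := ⟨⟨0, by omega⟩, rfl⟩
  have hoE : 2 * (o : ℕ) + 1 < n := by omega
  have hor : (o.rev : ℕ) + 1 = n := by rw [Fin.val_rev]; omega
  have hlam1 : lam = 1 := by
    have h := hlam o o le_rfl
    rw [if_pos rfl, hzU o o le_rfl, Matrix.one_apply_eq] at h
    exact h.symm
  subst hlam1
  have hlo : (heiG : Gr n).lv o = 0 := by simp [heiG, ho]
  have hhi : (heiG : Gr n).lv o.rev = 2 := by simp only [heiG]; rw [if_neg (by omega), if_pos hor]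
  have hmid : ∀ i : Fin n, i ≠ o → i ≠ o.rev → (heiG : Gr n).lv i = 1 := fun i h1 h2 => by
    have h1' : (i : ℕ) ≠ 0 := fun e => h1 (Fin.ext (by omega))
    have h2' : (i : ℕ) + 1 ≠ n := fun e => h2 (Fin.ext (by omega))
    simp only [heiG]; rw [if_neg h1', if_neg h2']
  obtain ⟨s0, hs0⟩ : ∃ s, σ s ≠ s := by
    by_contra h
    push Not at h
    exact hne (RingHom.ext h)
  -- the middle entries of the first row and of the last column vanish
  have key : ∀ j : Fin n, j ≠ o → j ≠ o.rev → ∀ s : K,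
      mat z o j * (-σ s) = s * mat z j.rev o.rev := by
    intro j hjo hjo'
    have key : ∀ s : K, ∃ B : K, mat z o j * (-σ s) + B = s * mat z j.rev o.rev + B := by
      intro s
      by_cases hjc : 2 * (j : ℕ) + 1 = n
      · obtain ⟨b, hb⟩ := exists_half hne hσ2 s
        refine ⟨b, ?_⟩
        have h : mat z * mat (Mr hσ2 o j hoE.ne hjc s b hb) = mat (Mr hσ2 o j hoE.ne hjc s b hb) * mat z :=
          congrArg mat (hzc _ (Mr_mem hσ2 hoE.ne hjc (show (o : ℕ) < j by omega) s b hb))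
        have hjr : j.rev = j := Fin.ext (by rw [Fin.val_rev]; omega)
        rw [mat_Mr] at h
        have e := congrFun (congrFun h ((e3 o j hoE.ne hjc).f 0)) ((e3 o j hoE.ne hjc).f 2)
        rw [mul_pad_apply, pad_mul_apply] at e
        simp [Fin.sum_univ_three, e3, hzU o o le_rfl, hzU o.rev o.rev le_rfl, mul_comm] at e
        rw [hjr]
        linear_combination e
      · refine ⟨0, ?_⟩
        have hj1 : (j : ℕ) ≠ 0 := fun e => hjo (Fin.ext (by omega))
        have hj2 : (j : ℕ) + 1 ≠ n := fun e => hjo' (Fin.ext (by omega))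
        have hjr1 : (o : ℕ) ≠ j.rev := by rw [Fin.val_rev]; omega
        have hjr2 : (o : ℕ) + j.rev + 1 ≠ n := by rw [Fin.val_rev]; omega
        have hjr3 : 2 * (j.rev : ℕ) + 1 ≠ n := by rw [Fin.val_rev]; omega
        have h : mat z * mat (Xr hσ2 o j.rev hjr1 hjr2 hoE.ne hjr3 s) =
            mat (Xr hσ2 o j.rev hjr1 hjr2 hoE.ne hjr3 s) * mat z :=
          congrArg mat (hzc _ (Xr_mem hσ2 hjr1 hjr2 hoE.ne hjr3 (show (o : ℕ) < j.rev by omega) s))
        rw [mat_Xr] at h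
        set E := e4 o j.rev hjr1 hjr2 hoE.ne hjr3 with hE
        have e := congrFun (congrFun h (E.f 0)) (E.f 3)
        rw [mul_pad_apply, pad_mul_apply] at e
        simp [Fin.sum_univ_four, hE, e4] at e
        linear_combination e
    intro s
    obtain ⟨B, hB⟩ := key s
    exact add_right_cancel hB
  have hrow : ∀ j : Fin n, j ≠ o → j ≠ o.rev → mat z o j = 0 := by
    intro j hjo hjo'
    have h1 := key j hjo hjo' 1
    have h2 := key j hjo hjo' s0
    rw [map_one] at h1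
    have : mat z o j * (σ s0 - s0) = 0 := by linear_combination s0 * h1 - h2
    exact (mul_eq_zero.mp this).resolve_right (sub_ne_zero.mpr hs0)
  have hcol : ∀ j : Fin n, j ≠ o → j ≠ o.rev → mat z j o.rev = 0 := by
    intro j hjo hjo'
    have hA : j.rev ≠ o := fun e => hjo' (by rw [← e, Fin.rev_rev])
    have hB : j.rev ≠ o.rev := fun e => hjo (Fin.rev_inj.mp e)
    have h1 := key j.rev hA hB 1
    rw [hrow j.rev hA hB, Fin.rev_rev, zero_mul, one_mul] at h1
    exact h1.symm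
  -- the central element is a long root element
  set t := mat z o o.rev with htdef
  have hoo : o ≠ o.rev := fun e => by rw [← e] at hor; omega
  have hzZ : mat z = pad (e2 o hoE.ne) !![1, t; 0, 1] := by
    refine Matrix.ext fun x y => ?_
    rcases pad_cases (e2 o hoE.ne) (!![1, t; 0, 1] : Matrix (Fin 2) (Fin 2) K) x y with h1 | ⟨a, b, rfl, rfl⟩
    · rw [h1]
      by_cases hyx : y ≤ x
      · exact hzU x y hyx
      have hxy : (x : ℕ) < y := not_le.mp hyx
      rw [Matrix.one_apply_ne (fun e => by rw [e] at hxy; omega)]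
      by_cases hxo : x = o
      · subst hxo
        by_cases hyo : y = x.rev
        · subst hyo
          rw [pad_apply' (e2 x hoE.ne) _ (a := 0) (b := 1) (x := x) (y := x.rev) rfl rfl,
            Matrix.one_apply_ne hoo] at h1
          rw [← htdef]
          simpa using h1
        · exact hrow y (fun e => by rw [e] at hxy; omega) hyo
      · by_cases hxo' : x = o.rev
        · rw [hxo'] at hxy
          have := y.isLt
          omega
        · by_cases hyo : y = o.rev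
          · rw [hyo]; exact hcol x hxo hxo'
          · rw [hlam x y (by rw [hmid x hxo hxo', hmid y (fun e => by rw [e, ho] at hxy; omega) hyo]),
              if_neg (fun e => by rw [e] at hxy; omega)]
    · rw [pad_apply]
      fin_cases a <;> fin_cases b <;> simp [e2]
      · exact (hzU o o le_rfl).trans (Matrix.one_apply_eq _)
      · exact htdef.symm
      · exact (hzU o.rev o (show (o : ℕ) ≤ o.rev by omega)).trans (Matrix.one_apply_ne hoo.symm)
      · exact (hzU o.rev o.rev le_rfl).trans (Matrix.one_apply_eq _)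
  have htt : t + σ t = 0 := by
    have h := str_mat_mul z
    rw [hzZ, str_pad, ← pad_mul, str_two] at h
    have e := congrFun (congrFun h ((e2 o hoE.ne).f 0)) ((e2 o hoE.ne).f 1)
    rw [pad_apply, Matrix.one_apply_ne ((e2 o hoE.ne).inj.ne (by decide))] at e
    simpa using e
  have ht0 : t ≠ 0 := by
    intro h
    apply hz1
    refine Subtype.ext (mat_ext ?_)
    show mat z = _
    rw [hzZ, h, ← Matrix.one_fin_two, pad_one]
    rfl
  have hz : Zr o hoE.ne t htt ∈ T := by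
    rwa [show Zr o hoE.ne t htt = z from mat_ext hzZ.symm]
  -- all long root elements
  obtain ⟨k1, hk1⟩ : ∃ k : Fin n, (k : ℕ) = 1 := ⟨⟨1, by omega⟩, rfl⟩
  have hZo : ∀ (t' : K) (ht' : t' + σ t' = 0), Zr o hoE.ne t' ht' ∈ T := by
    intro t' ht'
    by_cases h0 : t' = 0
    · subst h0
      rw [show Zr o hoE.ne 0 ht' = 1 from mat_ext (by rw [mat_Zr, ← Matrix.one_fin_two, pad_one]; rfl)]
      exact one_mem _
    obtain ⟨c, hc0, hc⟩ := CfsgLib.Hermitian.exists_norm hne hσ2 (a := t' / t) (div_ne_zero h0 ht0) (by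
      rw [map_div₀, eq_neg_of_add_eq_zero_right ht', eq_neg_of_add_eq_zero_right htt, neg_div_neg_eq])
    have e : t' = (Units.mk0 c hc0 : Kˣ) * σ (Units.mk0 c hc0 : Kˣ) * t := by
      rw [Units.val_mk0, mul_comm c (σ c), hc, div_mul_cancel₀ _ ht0]
    subst e
    set E := e4 o k1 (by omega) (by omega) hoE.ne (by omega) with hE
    have h := congrArg (padHom (σ := σ) E) (scale_Z hσ2 (Units.mk0 c hc0) t htt ht')
    rw [map_mul, map_mul, map_inv, padHom_Zr E 0 (by decide) hoE.ne rfl,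
      padHom_Zr E 0 (by decide) hoE.ne rfl] at h
    rw [← h]
    exact hcl _ _ hz (h ▸ Zr_mem hoE.ne (show (o : ℕ) < o.rev by omega) _ _)
  have hZ : ∀ (i : Fin n) (hi : 2 * (i : ℕ) + 1 < n) (t' : K) (ht' : t' + σ t' = 0), Zr i hi.ne t' ht' ∈ T := by
    intro i hi t' ht'
    by_cases hio : i = o
    · subst hio; exact hZo t' ht'
    have hio' : (o : ℕ) ≠ i := fun e => hio (Fin.ext e.symm)
    set E := e4 o i hio' (by omega) hoE.ne hi.ne with hE
    have h := congrArg (padHom (σ := σ) E) (swap_Z hσ2 t' ht')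
    rw [map_mul, map_mul, map_inv, padHom_Zr E 0 (by decide) hoE.ne rfl,
      padHom_Zr E 1 (by decide) hi.ne rfl] at h
    rw [← h]
    exact hcl _ _ (hZo t' ht') (h ▸ Zr_mem hi.ne (show (i : ℕ) < i.rev by rw [Fin.val_rev]; omega) _ _)
  obtain ⟨t0, ht00, ht0'⟩ := exists_skew hne hσ2
  have hX' : ∀ (i x : Fin n) (hix : (i : ℕ) < x) (hix' : (i : ℕ) + x + 1 < n) (hx : n < 2 * (x : ℕ) + 1) (u : K),
      Xr hσ2 i x hix.ne hix'.ne (by omega) hx.ne' u ∈ T := by
    intro i x hix hix' hx u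
    have hj : 2 * (x.rev : ℕ) + 1 < n := by rw [Fin.val_rev]; omega
    have hij : (i : ℕ) < x.rev := by rw [Fin.val_rev]; omega
    have hij' : (i : ℕ) + x.rev + 1 < n := by rw [Fin.val_rev]; omega
    set E := e4 i x.rev hij.ne hij'.ne (by omega) hj.ne with hE
    set s := u / t0 with hs
    have hts : t0 * (s * σ s) + σ (t0 * (s * σ s)) = 0 := by
      rw [map_mul, map_mul, hσ2]
      linear_combination (s * σ s) * ht0'
    have h := congrArg (padHom (σ := σ) E) (comm_ZX hσ2 s t0 ht0' hts)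
    rw [map_mul, map_mul, map_mul, map_mul,
      padHom_Zr E 0 (by decide) (i := i) (by omega) rfl,
      padHom_Zr E 1 (by decide) hj.ne rfl,
      padHom_Xr hσ2 E 0 1 (by decide) (by decide) (by decide) (by decide) hij.ne hij'.ne (by omega) hj.ne rfl rfl,
      padHom_Xr hσ2 E 0 2 (by decide) (by decide) (by decide) (by decide) hix.ne hix'.ne (by omega) hx.ne' rfl
        (by simp [hE, e4])] at h
    have e : t0 * s = u := by rw [hs, mul_div_cancel₀ _ ht00]
    rw [e] at h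
    have hxU : Xr hσ2 i x.rev hij.ne hij'.ne (by omega) hj.ne s ∈ uni σ n :=
      Xr_mem hσ2 _ _ _ _ (show (i : ℕ) < x.rev from hij) _
    have hc := mul_mem (hnorm _ hxU _ (hZ x.rev hj t0 ht0')) (inv_mem (hZ x.rev hj t0 ht0'))
    rw [h, mul_inv_cancel_right, mul_inv_cancel_right] at hc
    exact (Subgroup.mul_mem_cancel_left T (hZ i (by omega) _ _)).mp hc
  have hX : ∀ (i j : Fin n) (hij : (i : ℕ) < j) (hij' : (i : ℕ) + j + 1 < n) (hj : 2 * (j : ℕ) + 1 ≠ n) (s : K),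
      Xr hσ2 i j hij.ne hij'.ne (by omega) hj s ∈ T := by
    intro i j hij hij' hj s
    rcases lt_or_gt_of_ne hj with hj' | hj'
    · have hjr : n < 2 * (j.rev : ℕ) + 1 := by rw [Fin.val_rev]; omega
      have hjr1 : (i : ℕ) < j.rev := by rw [Fin.val_rev]; omega
      have hjr2 : (i : ℕ) + j.rev + 1 < n := by rw [Fin.val_rev]; omega
      set E := e4 i j hij.ne hij'.ne (by omega) hj with hE
      have h := congrArg (padHom (σ := σ) E) (swap_X hσ2 t0 ht00 ht0' s)
      rw [map_mul, map_mul, map_inv,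
        padHom_Xr hσ2 E 0 1 (by decide) (by decide) (by decide) (by decide) hij.ne hij'.ne (by omega) hj rfl rfl,
        padHom_Xr hσ2 E 0 2 (by decide) (by decide) (by decide) (by decide) hjr1.ne hjr2.ne (by omega) hjr.ne' rfl
          rfl] at h
      rw [← h]
      exact hcl _ _ (hX' i j.rev hjr1 hjr2 hjr _) (h ▸ Xr_mem hσ2 _ _ _ _ (show (i : ℕ) < j from hij) _)
    · exact hX' i j hij hij' hj' s
  refine uni_le_of_roots hσ2 hne (by omega) T hZ hX ?_
  have hMlow : ∀ (i j c : Fin n) (hij : (i : ℕ) < j) (hj : 2 * (j : ℕ) + 1 < n) (hc : 2 * (c : ℕ) + 1 = n) (a b : K)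
      (h : b + σ b + a * σ a = 0), Mr hσ2 i c (by omega) hc a b h ∈ T := by
    intro i j c hij hj hc a b hab
    have hij' : (i : ℕ) + j + 1 < n := by omega
    have hjr : n < 2 * (j.rev : ℕ) + 1 := by rw [Fin.val_rev]; omega
    have hjr1 : (i : ℕ) < j.rev := by rw [Fin.val_rev]; omega
    have hjr2 : (i : ℕ) + j.rev + 1 < n := by rw [Fin.val_rev]; omega
    set E := e5 i j c hij.ne hij'.ne (by omega) hj.ne hc with hE
    have h := congrArg (padHom (σ := σ) E) (comm_MX hσ2 a b hab)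
    rw [map_mul, map_mul, map_mul, map_mul,
      padHom_Mr hσ2 E 0 2 (by decide) (by decide) (i := i) (c := c) (by omega) hc rfl rfl,
      padHom_Mr hσ2 E 1 2 (by decide) (by decide) (i := j) (c := c) hj.ne hc rfl rfl,
      padHom_Xr hσ2 E 0 1 (by decide) (by decide) (by decide) (by decide) hij.ne hij'.ne (by omega) hj.ne rfl rfl,
      padHom_Xr hσ2 E 0 3 (by decide) (by decide) (by decide) (by decide) hjr1.ne hjr2.ne (by omega) hjr.ne' rfl
        rfl] at h
    have hzU' : Mr hσ2 j c hj.ne hc a b hab ∈ uni σ n := Mr_mem hσ2 _ hc (show (j : ℕ) < c by omega) _ _ _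
    have hxT := hX i j hij hij' hj.ne 1
    have hc' := mul_mem hxT (hnorm _ hzU' _ (inv_mem hxT))
    rw [← mul_assoc, ← mul_assoc, h, mul_inv_cancel_right, mul_inv_cancel_right] at hc'
    exact (Subgroup.mul_mem_cancel_right T (hX' i j.rev hjr1 hjr2 hjr _)).mp hc'
  intro k c hk hc a b hab
  by_cases hko : k = o
  · subst hko
    exact hMlow k k1 c (by omega) (by omega) hc a b hab
  have hko' : (o : ℕ) ≠ k := fun e => hko (Fin.ext e.symm)
  have hab' : b + σ b + -a * σ (-a) = 0 := by rw [map_neg]; linear_combination hab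
  set E := e5 o k c hko' (by omega) hoE.ne hk.ne hc with hE
  have h := congrArg (padHom (σ := σ) E) (swap_M hσ2 a b hab hab')
  rw [map_mul, map_mul, map_inv,
    padHom_Mr hσ2 E 0 2 (by decide) (by decide) (i := o) (c := c) hoE.ne hc rfl rfl,
    padHom_Mr hσ2 E 1 2 (by decide) (by decide) (i := k) (c := c) hk.ne hc rfl rfl] at h
  rw [← h]
  exact hcl _ _ (hMlow o k1 c (by omega) (by omega) hc _ _ hab')
    (h ▸ Mr_mem hσ2 hk.ne hc (show (k : ℕ) < c by omega) _ _ _)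

end CfsgLib.SUFusion
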