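import Cfsg.Agent.SUFusion.Basic
set_option autoImplicit false

/-!
Root elements, torus elements and gradings of the hyperbolic special unitary group.
-/

namespace CfsgLib.SUFusion

open Matrix

variable {K : Type*} [Field K] {σ : K →+* K} {n : ℕ}

theorem str_two (a b c d : K) : str σ !![a, b; c, d] = !![σ d, σ b; σ c, σ a] := by
  ext i j; fin_cases i <;> fin_cases j <;> rfl

theorem str_three (a b c d e f g h i : K) :
    str σ !![a, b, c; d, e, f; g, h, i] = !![σ i, σ f, σ c; σ h, σ e, σ b; σ g, σ d, σ a] := by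
  ext u v; fin_cases u <;> fin_cases v <;> rfl

/-- Upper long root element of rank one. -/
def u2 (t : K) (ht : t + σ t = 0) : iso σ 2 := mk !![1, t; 0, 1] (by simp) (by
  rw [str_two]
  ext i j
  fin_cases i <;> fin_cases j <;> simp [ht])

/-- Lower long root element of rank one. -/
def l2 (t : K) (ht : t + σ t = 0) : iso σ 2 := mk !![1, 0; t, 1] (by simp) (by
  rw [str_two]
  ext i j
  fin_cases i <;> fin_cases j <;> simp [add_comm (σ t), ht])

/-- The Weyl element of rank one. -/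
def w2 (b : K) (hb0 : b ≠ 0) (hb : b + σ b = 0) : iso σ 2 := mk !![0, b; (σ b)⁻¹, 0]
  (by
    have : σ b ≠ 0 := (map_ne_zero σ).mpr hb0
    rw [Matrix.det_fin_two_of]; field_simp; linear_combination (-1 : K) * hb)
  (by
    have : σ b ≠ 0 := (map_ne_zero σ).mpr hb0
    have h2 : σ (σ b) = b := by
      have e := congrArg σ hb
      rw [map_add, map_zero] at e
      linear_combination e - hb
    rw [str_two]
    ext i j
    fin_cases i <;> fin_cases j <;> simp [h2, this, hb0])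

/-- The torus element of rank one. -/
def d2 (t : K) (ht0 : t ≠ 0) (ht : σ t = t) : iso σ 2 := mk !![t, 0; 0, t⁻¹] (by simp [ht0]) (by
  rw [str_two]
  ext i j
  fin_cases i <;> fin_cases j <;> simp [ht, ht0])

/-- Upper element of the rank one group with a middle coordinate. -/
def u3 (hσ2 : ∀ x, σ (σ x) = x) (a b : K) (h : b + σ b + a * σ a = 0) : iso σ 3 :=
  mk !![1, a, b; 0, 1, -σ a; 0, 0, 1] (by simp [Matrix.det_fin_three]) (by
    rw [str_three]
    ext i j
    fin_cases i <;> fin_cases j <;> simp [Matrix.mul_apply, Fin.sum_univ_three, hσ2] <;> linear_combination h)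

/-- Lower element of the rank one group with a middle coordinate. -/
def l3 (hσ2 : ∀ x, σ (σ x) = x) (c d : K) (h : d + σ d + c * σ c = 0) : iso σ 3 :=
  mk !![1, 0, 0; c, 1, 0; d, -σ c, 1] (by simp [Matrix.det_fin_three]) (by
    rw [str_three]
    ext i j
    fin_cases i <;> fin_cases j <;> simp [Matrix.mul_apply, Fin.sum_univ_three, hσ2] <;> linear_combination h)

/-- The Weyl element with a middle coordinate. -/
def w3 (hσ2 : ∀ x, σ (σ x) = x) (b : K) (hb0 : b ≠ 0) : iso σ 3 :=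
  mk !![0, 0, b; 0, -σ b / b, 0; (σ b)⁻¹, 0, 0]
  (by
    have : σ b ≠ 0 := (map_ne_zero σ).mpr hb0
    simp [Matrix.det_fin_three]; field_simp)
  (by
    have : σ b ≠ 0 := (map_ne_zero σ).mpr hb0
    rw [str_three]
    ext i j
    fin_cases i <;> fin_cases j <;> simp [Matrix.mul_apply, Fin.sum_univ_three, hσ2, this, hb0]
    field_simp)

/-- The torus element with a middle coordinate. -/
def d3 (hσ2 : ∀ x, σ (σ x) = x) (t : K) (ht0 : t ≠ 0) : iso σ 3 :=
  mk !![t, 0, 0; 0, σ t / t, 0; 0, 0, (σ t)⁻¹]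
  (by
    have : σ t ≠ 0 := (map_ne_zero σ).mpr ht0
    simp [Matrix.det_fin_three]; field_simp)
  (by
    have : σ t ≠ 0 := (map_ne_zero σ).mpr ht0
    rw [str_three]
    ext i j
    fin_cases i <;> fin_cases j <;> simp [Matrix.mul_apply, Fin.sum_univ_three, hσ2, this, ht0])

/-- `SL₂` on a pair of isotropic planes. -/
def phi (hσ2 : ∀ x, σ (σ x) = x) : SpecialLinearGroup (Fin 2) K →* iso σ 4 where
  toFun g := mk !![g.1 0 0, g.1 0 1, 0, 0; g.1 1 0, g.1 1 1, 0, 0;
      0, 0, σ (g.1 0 0), -σ (g.1 0 1); 0, 0, -σ (g.1 1 0), σ (g.1 1 1)]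
    (by
      have h : g.1 0 0 * g.1 1 1 - g.1 0 1 * g.1 1 0 = 1 := by rw [← Matrix.det_fin_two]; exact g.2
      have h' := congrArg σ h
      simp only [map_sub, map_mul, map_one] at h'
      simp [Matrix.det_succ_row_zero, Fin.sum_univ_succ, Fin.succAbove]
      linear_combination h + (g.1 0 0 * g.1 1 1 - g.1 0 1 * g.1 1 0) * h')
    (by
      have h : g.1 0 0 * g.1 1 1 - g.1 0 1 * g.1 1 0 = 1 := by rw [← Matrix.det_fin_two]; exact g.2
      have h' := congrArg σ h
      simp only [map_sub, map_mul, map_one] at h'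
      ext i j
      fin_cases i <;> fin_cases j <;>
        simp [str_apply, Matrix.mul_apply, Fin.sum_univ_four, hσ2, Fin.rev] <;>
        first
          | linear_combination h
          | linear_combination h'
          | ring1)
  map_one' := by
    apply mat_ext
    ext i j
    fin_cases i <;> fin_cases j <;> simp [mat_mk, mat_one]
  map_mul' g h := by
    apply mat_ext
    have e : ∀ a b, (g * h).1 a b = g.1 a 0 * h.1 0 b + g.1 a 1 * h.1 1 b := fun a b => by
      show (g.1 * h.1) a b = _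
      rw [Matrix.mul_apply, Fin.sum_univ_two]
    rw [mat_mul, mat_mk, mat_mk, mat_mk]
    ext i j
    fin_cases i <;> fin_cases j <;> simp [e, Matrix.mul_apply, Fin.sum_univ_four] <;> ring

/-- Two coordinates swapped by the reversal. -/
def e2 (i : Fin n) (hi : 2 * (i : ℕ) + 1 ≠ n) : REmb 2 n :=
  ⟨![i, i.rev], fun a b h => by
    have := i.isLt
    fin_cases a <;> fin_cases b <;> simp [Fin.ext_iff, Fin.val_rev] at h ⊢ <;> omega,
   fun a => by fin_cases a <;> simp [Fin.ext_iff, Fin.val_rev] <;> omega⟩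

/-- Two coordinates and a middle one. -/
def e3 (i c : Fin n) (hi : 2 * (i : ℕ) + 1 ≠ n) (hc : 2 * (c : ℕ) + 1 = n) : REmb 3 n :=
  ⟨![i, c, i.rev], fun a b h => by
    have := i.isLt
    fin_cases a <;> fin_cases b <;> simp [Fin.ext_iff, Fin.val_rev] at h ⊢ <;> omega,
   fun a => by
    have := i.isLt
    fin_cases a <;> simp [Fin.ext_iff, Fin.val_rev] <;> omega⟩

/-- Two pairs of coordinates. -/
def e4 (i j : Fin n) (hij : (i : ℕ) ≠ j) (hij' : (i : ℕ) + j + 1 ≠ n) (hi : 2 * (i : ℕ) + 1 ≠ n)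
    (hj : 2 * (j : ℕ) + 1 ≠ n) : REmb 4 n :=
  ⟨![i, j, j.rev, i.rev], fun a b h => by
    have := i.isLt
    have := j.isLt
    fin_cases a <;> fin_cases b <;> simp [Fin.ext_iff, Fin.val_rev] at h ⊢ <;> omega,
   fun a => by
    have := i.isLt
    have := j.isLt
    fin_cases a <;> simp [Fin.ext_iff, Fin.val_rev] <;> omega⟩

/-- Two pairs of coordinates and a middle one. -/
def e5 (i j c : Fin n) (hij : (i : ℕ) ≠ j) (hij' : (i : ℕ) + j + 1 ≠ n) (hi : 2 * (i : ℕ) + 1 ≠ n)
    (hj : 2 * (j : ℕ) + 1 ≠ n) (hc : 2 * (c : ℕ) + 1 = n) : REmb 5 n :=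
  ⟨![i, j, c, j.rev, i.rev], fun a b h => by
    have := i.isLt
    have := j.isLt
    fin_cases a <;> fin_cases b <;> simp [Fin.ext_iff, Fin.val_rev] at h ⊢ <;> omega,
   fun a => by
    have := i.isLt
    have := j.isLt
    fin_cases a <;> simp [Fin.ext_iff, Fin.val_rev] <;> omega⟩

/-- The grading by position. -/
def idG : Gr n := ⟨fun i => i, fun x y h => by have := x.isLt; have := y.isLt; simp [Fin.val_rev]; omega⟩

/-- The opposite grading. -/
def revG : Gr n :=
  ⟨fun i => n - i, fun x y h => by have := x.isLt; have := y.isLt; simp [Fin.val_rev] at h ⊢; omega⟩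

/-- The grading of the stabiliser of a maximal isotropic subspace. -/
def sieG : Gr n :=
  ⟨fun i => if 2 * (i : ℕ) + 1 < n then 0 else if 2 * (i : ℕ) + 1 = n then 1 else 2, fun x y h => by
    have := x.isLt; have := y.isLt
    simp only [Fin.val_rev] at h ⊢
    split_ifs at h ⊢ <;> omega⟩

/-- The grading of the stabiliser of an isotropic point. -/
def heiG : Gr n :=
  ⟨fun i => if (i : ℕ) = 0 then 0 else if (i : ℕ) + 1 = n then 2 else 1, fun x y h => by
    have := x.isLt; have := y.isLt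
    simp only [Fin.val_rev] at h ⊢
    split_ifs at h ⊢ <;> omega⟩

variable (σ n) in
/-- The unitriangular group. -/
def uni : Subgroup (iso σ n) := rad σ idG

theorem rad_le_uni {G : Gr n} (hG : ∀ x y : Fin n, x ≤ y → G.lv x ≤ G.lv y) : rad σ G ≤ uni σ n :=
  fun _ h i j hji => h i j (hG j i hji)

theorem uni_le_par {G : Gr n} (hG : ∀ x y : Fin n, x ≤ y → G.lv x ≤ G.lv y) : uni σ n ≤ par σ G := by
  intro g hg i j hji
  have hlt : j < i := by
    by_contra hc
    have := hG i j (not_lt.mp hc)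
    omega
  rw [hg i j (le_of_lt (show (j : ℕ) < i from hlt)), Matrix.one_apply_ne hlt.ne']

theorem sie_mono : ∀ x y : Fin n, x ≤ y → (sieG : Gr n).lv x ≤ (sieG : Gr n).lv y := by
  intro x y h
  rw [Fin.le_def] at h
  simp only [sieG]
  split_ifs <;> omega

theorem hei_mono : ∀ x y : Fin n, x ≤ y → (heiG : Gr n).lv x ≤ (heiG : Gr n).lv y := by
  intro x y h
  rw [Fin.le_def] at h
  have := y.isLt
  simp only [heiG]
  split_ifs <;> omega

section Roots

variable (hσ2 : ∀ x, σ (σ x) = x)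

/-- Long root element. -/
def Zr (i : Fin n) (hi : 2 * (i : ℕ) + 1 ≠ n) (t : K) (ht : t + σ t = 0) : iso σ n := padHom (e2 i hi) (u2 t ht)

/-- `SL₂` on the coordinates of `i, j`. -/
def x4 (i j : Fin n) (hij : (i : ℕ) ≠ j) (hij' : (i : ℕ) + j + 1 ≠ n) (hi : 2 * (i : ℕ) + 1 ≠ n)
    (hj : 2 * (j : ℕ) + 1 ≠ n) : SpecialLinearGroup (Fin 2) K →* iso σ n :=
  (padHom (e4 i j hij hij' hi hj)).comp (phi hσ2)

/-- Short root element. -/
def Xr (i j : Fin n) (hij : (i : ℕ) ≠ j) (hij' : (i : ℕ) + j + 1 ≠ n) (hi : 2 * (i : ℕ) + 1 ≠ n)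
    (hj : 2 * (j : ℕ) + 1 ≠ n) (s : K) : iso σ n :=
  x4 hσ2 i j hij hij' hi hj (SpecialLinearGroup.transvection (show (0 : Fin 2) ≠ 1 by decide) s)

/-- Root element through the middle coordinate. -/
def Mr (i c : Fin n) (hi : 2 * (i : ℕ) + 1 ≠ n) (hc : 2 * (c : ℕ) + 1 = n) (a b : K)
    (h : b + σ b + a * σ a = 0) : iso σ n :=
  padHom (e3 i c hi hc) (u3 hσ2 a b h)

theorem Zr_mem {G : Gr n} {i : Fin n} (hi : 2 * (i : ℕ) + 1 ≠ n) (hG : G.lv i < G.lv i.rev) (t : K)
    (ht : t + σ t = 0) : Zr i hi t ht ∈ rad σ G := by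
  refine padHom_mem_rad _ _ _ fun a b h => ?_
  fin_cases a <;> fin_cases b <;> simp [e2, u2, mat_mk] at h ⊢
  omega

theorem Mr_mem {G : Gr n} {i c : Fin n} (hi : 2 * (i : ℕ) + 1 ≠ n) (hc : 2 * (c : ℕ) + 1 = n)
    (hG : G.lv i < G.lv c) (a b : K) (h : b + σ b + a * σ a = 0) : Mr hσ2 i c hi hc a b h ∈ rad σ G := by
  have hG' : G.lv c < G.lv i.rev := by
    have h1 := G.rev_lt hG
    rwa [show c.rev = c from Fin.ext (by rw [Fin.val_rev]; omega)] at h1
  refine padHom_mem_rad _ _ _ fun x y hxy => ?_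
  fin_cases x <;> fin_cases y <;> simp [e3, u3, mat_mk] at hxy ⊢ <;> omega

theorem Xr_mem {G : Gr n} {i j : Fin n} (hij : (i : ℕ) ≠ j) (hij' : (i : ℕ) + j + 1 ≠ n)
    (hi : 2 * (i : ℕ) + 1 ≠ n) (hj : 2 * (j : ℕ) + 1 ≠ n) (hG : G.lv i < G.lv j) (s : K) :
    Xr hσ2 i j hij hij' hi hj s ∈ rad σ G := by
  have hG' := G.rev_lt hG
  refine padHom_mem_rad _ _ _ fun x y hxy => ?_
  fin_cases x <;> fin_cases y <;>
    simp [e4, phi, mat_mk, SpecialLinearGroup.transvection_coe] at hxy ⊢ <;> omega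

theorem x4_mem_par {G : Gr n} {i j : Fin n} (hij : (i : ℕ) ≠ j) (hij' : (i : ℕ) + j + 1 ≠ n)
    (hi : 2 * (i : ℕ) + 1 ≠ n) (hj : 2 * (j : ℕ) + 1 ≠ n) (g : SpecialLinearGroup (Fin 2) K)
    (h01 : G.lv j < G.lv i → g.1 0 1 = 0) (h10 : G.lv i < G.lv j → g.1 1 0 = 0) :
    x4 hσ2 i j hij hij' hi hj g ∈ par σ G := by
  refine padHom_mem_par _ _ _ fun x y hxy => ?_
  fin_cases x <;> fin_cases y <;> simp [e4, phi, mat_mk] at hxy ⊢
  · exact h01 hxy
  · exact h10 hxy
  · exact h01 (by simpa using G.rev_lt hxy)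
  · exact h10 (by simpa using G.rev_lt hxy)

end Roots

theorem exists_skew (hne : σ ≠ RingHom.id K) (hσ2 : ∀ x, σ (σ x) = x) : ∃ t : K, t ≠ 0 ∧ t + σ t = 0 := by
  obtain ⟨x, hx⟩ : ∃ x, σ x ≠ x := by
    by_contra h
    push Not at h
    exact hne (RingHom.ext h)
  exact ⟨x - σ x, sub_ne_zero.mpr (Ne.symm hx), by rw [map_sub, hσ2]; ring⟩

theorem exists_half (hne : σ ≠ RingHom.id K) (hσ2 : ∀ x, σ (σ x) = x) (a : K) :
    ∃ b : K, b + σ b + a * σ a = 0 := by
  obtain ⟨lam, hlam⟩ : ∃ lam : K, lam + σ lam ≠ 0 := by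
    by_contra h
    push Not at h
    apply hne
    have e1 := h 1
    rw [map_one] at e1
    refine RingHom.ext fun t => ?_
    have e2 := h t
    rw [RingHom.id_apply]
    linear_combination e2 - t * e1
  refine ⟨-(a * σ a) * (lam / (lam + σ lam)), ?_⟩
  rw [map_mul, map_neg, map_mul, hσ2, map_div₀, map_add, hσ2]
  rw [show σ lam + lam = lam + σ lam from add_comm _ _]
  field_simp
  ring

theorem exists_norm_of_trace [Finite K] (hne : σ ≠ RingHom.id K) (hσ2 : ∀ x, σ (σ x) = x) (b : K) :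
    ∃ a : K, b + σ b + a * σ a = 0 := by
  by_cases h : b + σ b = 0
  · exact ⟨0, by simp [h]⟩
  obtain ⟨c, -, hc⟩ := CfsgLib.Hermitian.exists_norm hne hσ2 (a := -(b + σ b)) (neg_ne_zero.mpr h)
    (by simp [hσ2, add_comm])
  exact ⟨c, by linear_combination hc⟩

theorem pad_apply' {k : ℕ} (e : REmb k n) (A : Matrix (Fin k) (Fin k) K) {x y : Fin n} {a b : Fin k}
    (ha : e.f a = x) (hb : e.f b = y) : pad e A x y = A a b := by
  subst ha hb
  exact pad_apply e A a b

theorem mul_pad_apply {k : ℕ} (e : REmb k n) (M : Matrix (Fin n) (Fin n) K) (A : Matrix (Fin k) (Fin k) K)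
    (x : Fin n) (b : Fin k) : (M * pad e A) x (e.f b) = ∑ a, M x (e.f a) * A a b := by
  classical
  rw [Matrix.mul_apply, ← Finset.sum_subset (Finset.subset_univ (Finset.univ.image e.f)) (fun y _ hy => ?_),
    Finset.sum_image e.inj.injOn]
  · simp [pad_apply]
  · simp only [Finset.mem_image, Finset.mem_univ, true_and, not_exists] at hy
    rw [pad_apply_of e A y _ (Or.inl fun a => Ne.symm (hy a)), Matrix.one_apply_ne (Ne.symm (hy b)), mul_zero]

theorem mul_pad_apply_of {k : ℕ} (e : REmb k n) (M : Matrix (Fin n) (Fin n) K) (A : Matrix (Fin k) (Fin k) K)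
    (x y : Fin n) (hy : ∀ b, y ≠ e.f b) : (M * pad e A) x y = M x y := by
  rw [Matrix.mul_apply, Finset.sum_eq_single y (fun z _ hz => ?_) (by simp)]
  · rw [pad_apply_of e A y y (Or.inl hy), Matrix.one_apply_eq, mul_one]
  · rw [pad_apply_of e A z y (Or.inr hy), Matrix.one_apply_ne hz, mul_zero]

theorem pad_mul_apply {k : ℕ} (e : REmb k n) (M : Matrix (Fin n) (Fin n) K) (A : Matrix (Fin k) (Fin k) K)
    (a : Fin k) (y : Fin n) : (pad e A * M) (e.f a) y = ∑ b, A a b * M (e.f b) y := by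
  classical
  rw [Matrix.mul_apply, ← Finset.sum_subset (Finset.subset_univ (Finset.univ.image e.f)) (fun z _ hz => ?_),
    Finset.sum_image e.inj.injOn]
  · simp [pad_apply]
  · simp only [Finset.mem_image, Finset.mem_univ, true_and, not_exists] at hz
    rw [pad_apply_of e A _ z (Or.inr fun b => Ne.symm (hz b)), Matrix.one_apply_ne (hz a), zero_mul]

theorem pad_mul_apply_of {k : ℕ} (e : REmb k n) (M : Matrix (Fin n) (Fin n) K) (A : Matrix (Fin k) (Fin k) K)
    (x y : Fin n) (hx : ∀ a, x ≠ e.f a) : (pad e A * M) x y = M x y := by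
  rw [Matrix.mul_apply, Finset.sum_eq_single x (fun z _ hz => ?_) (by simp)]
  · rw [pad_apply_of e A x x (Or.inl hx), Matrix.one_apply_eq, one_mul]
  · rw [pad_apply_of e A x z (Or.inl hx), Matrix.one_apply_ne (Ne.symm hz), zero_mul]

end CfsgLib.SUFusion
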